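import Groth.Agent.Sga3.H784.Neutral
import Groth.Agent.Sga3B.RG.Rel885
import Groth.Agent.Sga3B.RG.ConjTori
import Groth.Agent.S3027
import Groth.Prelude.Def_SGA3x

/-!
# Conjugacy of maximal tori of an algebraic group over an algebraically closed field

The group is not assumed to be affine, smooth, connected or quasi-compact.

* `conjIso`: conjugation by a point, as an automorphism;
* `exists_quot`: a connected algebraic group has an affine quotient with central kernel;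
* `exists_max_above`: the image of a torus in an affine group lies in a maximal torus;
* `exists_conjBy`: maximal tori are conjugate.
-/

set_option autoImplicit false

universe u

open CategoryTheory MonoidalCategory CartesianMonoidalCategory MonObj GrpObj AlgebraicGeometry
open Groth.Agent.Books.AffBridge Groth.Agent.Books.AffBridge2

namespace Groth.Agent.Sga3.H784.Conj

section conj

variable {C : Type*} [Category C] [CartesianMonoidalCategory C] {G : C} [GrpObj G]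

/-- Conjugation by a point, as an automorphism. -/
def conjIso (g : 𝟙_ C ⟶ G) : G ≅ G where
  hom := (toUnit G ≫ g) * 𝟙 G * (toUnit G ≫ g)⁻¹
  inv := (toUnit G ≫ g)⁻¹ * 𝟙 G * (toUnit G ≫ g)
  hom_inv_id := by
    simp only [MonObj.comp_mul, GrpObj.comp_inv, comp_toUnit_assoc, Category.comp_id]
    group
  inv_hom_id := by
    simp only [MonObj.comp_mul, GrpObj.comp_inv, comp_toUnit_assoc, Category.comp_id]
    group

lemma comp_conjIso_hom (g : 𝟙_ C ⟶ G) {X : C} (f : X ⟶ G) :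
    f ≫ (conjIso g).hom = (toUnit X ≫ g) * f * (toUnit X ≫ g)⁻¹ := by
  simp only [conjIso, MonObj.comp_mul, GrpObj.comp_inv, comp_toUnit_assoc, Category.comp_id]

lemma comp_conjIso_inv (g : 𝟙_ C ⟶ G) {X : C} (f : X ⟶ G) :
    f ≫ (conjIso g).inv = (toUnit X ≫ g)⁻¹ * f * (toUnit X ≫ g) := by
  simp only [conjIso, MonObj.comp_mul, GrpObj.comp_inv, comp_toUnit_assoc, Category.comp_id]

instance (g : 𝟙_ C ⟶ G) : IsMonHom (conjIso g).hom := by
  apply Commute.isMonHom_of_pts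
  intro X x y
  rw [comp_conjIso_hom, comp_conjIso_hom, comp_conjIso_hom]
  group

instance (g : 𝟙_ C ⟶ G) : IsMonHom (conjIso g).inv := by
  apply Commute.isMonHom_of_pts
  intro X x y
  rw [comp_conjIso_inv, comp_conjIso_inv, comp_conjIso_inv]
  group

/-- Conjugation and homomorphisms. -/
lemma conjIso_hom_comp {H : C} [GrpObj H] (g : 𝟙_ C ⟶ G) (q : G ⟶ H) [IsMonHom q] {X : C}
    (f : X ⟶ G) : (f ≫ (conjIso g).hom) ≫ q = (f ≫ q) ≫ (conjIso (g ≫ q)).hom := by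
  rw [comp_conjIso_hom, comp_conjIso_hom, MonObj.mul_comp, MonObj.mul_comp, GrpObj.inv_comp,
    Category.assoc]

end conj

open Sga3B.RG Sga3B.RG.BrPts Sga3B.RG.BrTorus Sga3B.RG.BrImg Sga3B.RG.BrDiag Sga3B.RG.BrMax
open Books.AlgPts Books.AlgPtsSmooth Groth.Agent.Sga3.H784.Commute Neutral

variable {K : Type u} [Field K]

/-- A connected algebraic group has an affine quotient with central kernel. -/
theorem exists_quot (U : Over (Spec (CommRingCat.of K))) [GrpObj U] [LocallyOfFiniteType U.hom]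
    [QuasiCompact U.hom] [ConnectedSpace U.left] :
    ∃ (A : Type u) (_ : CommRing A) (_ : HopfAlgebra K A) (q : U ⟶ SpecOver K A),
      Algebra.FiniteType K A ∧ IsMonHom q ∧ Surjective q.left ∧ Flat q.left ∧
      ∀ (X : Over (Spec (CommRingCat.of K))) (z g : X ⟶ U), z ≫ q = 1 → z * g = g * z := by
  obtain ⟨Z, _, i, hi, hcl, hcen, Q, _, q, hq, haff, hlft, hfl, hsurj, hker⟩ := S3027.result K U
  obtain ⟨A, _, _, e, he⟩ := exists_hopf K Q
  have : IsIso e.hom.left := inferInstanceAs (IsIso ((Over.forget _).map e.hom))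
  have hlft' : LocallyOfFiniteType (SpecOver K A).hom := by
    rw [hom_eq_of_iso e.symm]
    infer_instance
  refine ⟨A, inferInstance, inferInstance, q ≫ e.hom, (locallyOfFiniteType_specOver_iff K A).1 hlft',
    inferInstance, ?_, ?_, fun X z g hz => ?_⟩
  · rw [Over.comp_left]
    infer_instance
  · rw [Over.comp_left]
    infer_instance
  · have hz' : z ≫ q = 1 := by
      rw [← cancel_mono e.hom, Category.assoc, hz, MonObj.one_comp]
    have h1 : z ≫ q = toUnit X ≫ η[Q] := hz'.trans rfl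
    have h2 := (hcen X z).1 ⟨IsPullback.lift hker z (toUnit X) h1, IsPullback.lift_fst _ _ _ _⟩
    have h3 := h2 X (𝟙 X) g
    rwa [Category.id_comp] at h3

variable [IsAlgClosed K]

/-- The image of a torus in an affine group lies in a maximal torus. -/
theorem exists_max_above {A : Type u} [CommRing A] [HopfAlgebra K A] [Algebra.FiniteType K A]
    {T : Over (Spec (CommRingCat.of K))} [GrpObj T] (hT : Red.IsTorus T) (f : T ⟶ SpecOver K A)
    [IsMonHom f] : ∃ M : Subgroup (Pt K A), IsMaxTorusSub M ∧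
      ∀ t : 𝟙_ (Over (Spec (CommRingCat.of K))) ⟶ T, (ptEquiv K A).symm (t ≫ f) ∈ M := by
  obtain ⟨n, e, he⟩ := isTorus_iff.1 hT
  have hei : IsMonHom e.inv := inferInstance
  obtain ⟨φ, hφ⟩ := exists_bialgHom_of_isMonHom K (e.inv ≫ f)
  have h1 : IsTorusSub (Pt.map φ).range := isTorusSub_range φ
  obtain ⟨M, hM, hle⟩ := h1.exists_isMaxTorusSub
  refine ⟨M, hM, fun t => hle ⟨(ptEquiv K _).symm (t ≫ e.hom), ?_⟩⟩
  apply (ptEquiv K A).injective
  rw [ptEquiv_map, MulEquiv.apply_symm_apply, hφ, MulEquiv.apply_symm_apply, Category.assoc,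
    Iso.hom_inv_id_assoc]

omit [IsAlgClosed K] in
/-- Tori are commutative. -/
lemma mul_comm_of_mem {A : Type u} [CommRing A] [HopfAlgebra K A] [Algebra.FiniteType K A]
    {M : Subgroup (Pt K A)} (hM : IsMaxTorusSub M) {x y : Pt K A} (hx : x ∈ M) (hy : y ∈ M) :
    x * y = y * x := by
  obtain ⟨n, π, hπ, rfl⟩ := hM.1
  obtain ⟨a, rfl⟩ := hx
  obtain ⟨b, rfl⟩ := hy
  obtain ⟨s, rfl⟩ := (torPt (K := K) (Multiplicative (Fin n → ℤ))).surjective a
  obtain ⟨t, rfl⟩ := (torPt (K := K) (Multiplicative (Fin n → ℤ))).surjective b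
  rw [← map_mul, ← map_mul, ← map_mul, ← map_mul, mul_comm s t]

omit [IsAlgClosed K] in
lemma isMaximalTorus_conj {G T : Over (Spec (CommRingCat.of K))} [GrpObj G] [GrpObj T]
    [IsAlgClosed K] (i : T ⟶ G) (h : Red.IsMaximalTorus i)
    (g : 𝟙_ (Over (Spec (CommRingCat.of K))) ⟶ G) : Red.IsMaximalTorus (i ≫ (conjIso g).hom) := by
  rw [isMaximalTorus_iff_abs] at h ⊢
  exact isAbsMax_comp_iso i (conjIso g) h

/-- Two commuting maximal tori are equal. -/
theorem exists_iso_of_commute {G T₁ T₂ : Over (Spec (CommRingCat.of K))} [GrpObj G] [GrpObj T₁]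
    [GrpObj T₂] (i₁ : T₁ ⟶ G) (i₂ : T₂ ⟶ G)
    (h₁ : Red.IsMaximalTorus i₁) (h₂ : Red.IsMaximalTorus i₂)
    (hc : ∀ (t : 𝟙_ (Over (Spec (CommRingCat.of K))) ⟶ T₁)
      (r : 𝟙_ (Over (Spec (CommRingCat.of K))) ⟶ T₂), (t ≫ i₁) * (r ≫ i₂) = (r ≫ i₂) * (t ≫ i₁)) :
    ∃ φ : T₁ ≅ T₂, φ.hom ≫ i₂ = i₁ := by
  have hm₁ := h₁.1
  have hm₂ := h₂.1
  have hmo₁ := h₁.2.1
  have hmo₂ := h₂.2.1
  obtain ⟨f, hf⟩ := exists_factor_of_commute i₁ h₁ i₂ h₂.2.2.1 hc
  obtain ⟨g, hg⟩ := exists_factor_of_commute i₂ h₂ i₁ h₁.2.2.1 (fun t r => (hc r t).symm)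
  refine ⟨⟨g, f, ?_, ?_⟩, hg⟩
  · rw [← cancel_mono i₁, Category.assoc, hf, hg, Category.id_comp]
  · rw [← cancel_mono i₂, Category.assoc, hg, hf, Category.id_comp]

/-- **Maximal tori of a connected algebraic group are conjugate.** -/
theorem exists_conj_of_connected {U T₁ T₂ : Over (Spec (CommRingCat.of K))} [GrpObj U] [GrpObj T₁]
    [GrpObj T₂] [LocallyOfFiniteType U.hom] [QuasiCompact U.hom] [ConnectedSpace U.left]
    (i₁ : T₁ ⟶ U) (i₂ : T₂ ⟶ U) (h₁ : Red.IsMaximalTorus i₁) (h₂ : Red.IsMaximalTorus i₂) :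
    ∃ (g : 𝟙_ (Over (Spec (CommRingCat.of K))) ⟶ U) (φ : T₁ ≅ T₂),
      i₁ ≫ (conjIso g).hom = φ.hom ≫ i₂ := by
  obtain ⟨A, _, _, q, _, _, _, _, hcen⟩ := exists_quot U
  have hm₁ := h₁.1
  have hm₂ := h₂.1
  obtain ⟨M₁, hM₁, hP₁⟩ := exists_max_above h₁.2.2.1 (i₁ ≫ q)
  obtain ⟨M₂, hM₂, hP₂⟩ := exists_max_above h₂.2.2.1 (i₂ ≫ q)
  have htop : IsCl ((⊤ : Subgroup (Pt K A)) : Set (Pt K A)) := fun _ _ => trivial
  obtain ⟨a, -, ha⟩ := ConjTori.exists_conj_of_le_closed htop hM₁.1 le_top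
    (fun S hS _ hle => hM₁.2 S hS hle) hM₂.1 le_top (fun S hS _ hle => hM₂.2 S hS hle)
  have := lft_specOver (K := K) A
  obtain ⟨g, hg⟩ := exists_comp_eq_of_pt_mem_range q (ptEquiv K A a)
    (by rw [Set.range_eq_univ.2 q.left.surjective]; trivial)
  have h₁' := isMaximalTorus_conj i₁ h₁ g
  have hm₁' := h₁'.1
  have hc : ∀ (t : 𝟙_ (Over (Spec (CommRingCat.of K))) ⟶ T₁)
      (r : 𝟙_ (Over (Spec (CommRingCat.of K))) ⟶ T₂),
      (t ≫ (i₁ ≫ (conjIso g).hom) ≫ q) * (r ≫ i₂ ≫ q) =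
        (r ≫ i₂ ≫ q) * (t ≫ (i₁ ≫ (conjIso g).hom) ≫ q) := by
    intro t r
    have h3 : (ptEquiv K A).symm (t ≫ (i₁ ≫ (conjIso g).hom) ≫ q) ∈ M₂ := by
      rw [← ha]
      refine ⟨_, hP₁ t, ?_⟩
      apply (ptEquiv K A).injective
      change ptEquiv K A (a * (ptEquiv K A).symm (t ≫ i₁ ≫ q) * a⁻¹) = _
      rw [map_mul, map_mul, map_inv, MulEquiv.apply_symm_apply, MulEquiv.apply_symm_apply,
        conjIso_hom_comp, ← Category.assoc, comp_conjIso_hom]
      simp only [MonObj.comp_mul, GrpObj.comp_inv, comp_toUnit_assoc, hg]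
      rw [toUnit_unique (toUnit (𝟙_ (Over (Spec (CommRingCat.of K))))) (𝟙 _), Category.id_comp,
        Category.assoc]
    have h4 := mul_comm_of_mem hM₂ h3 (hP₂ r)
    have h5 := congrArg (ptEquiv K A) h4
    rwa [map_mul, map_mul, MulEquiv.apply_symm_apply, MulEquiv.apply_symm_apply] at h5
  obtain ⟨φ, hφ⟩ := exists_iso_of_commute (i₁ ≫ (conjIso g).hom) i₂ h₁' h₂ (fun t r =>
    commute_of_central q (hcen _) _ _ h₁.2.2.1 h₂.2.2.1 hc t r)
  exact ⟨g, φ, hφ.symm⟩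

/-- **Maximal tori of an algebraic group are conjugate.** -/
theorem exists_conjBy {G T₁ T₂ : Over (Spec (CommRingCat.of K))} [GrpObj G] [GrpObj T₁] [GrpObj T₂]
    [LocallyOfFiniteType G.hom] (i₁ : T₁ ⟶ G) (i₂ : T₂ ⟶ G)
    (h₁ : Red.IsMaximalTorus i₁) (h₂ : Red.IsMaximalTorus i₂) :
    ∃ g : 𝟙_ (Over (Spec (CommRingCat.of K))) ⟶ G, SGA3x.ConjBy i₁ i₂ g := by
  obtain ⟨U, _, u, hu, hcl, hsm, hconn, hqc, hr⟩ := exists_neutral G
  have hm₁ := h₁.1
  have hm₂ := h₂.1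
  obtain ⟨f₁, hf₁, rfl⟩ := exists_lift_neutral u hr i₁ h₁.2.2.1
  obtain ⟨f₂, hf₂, rfl⟩ := exists_lift_neutral u hr i₂ h₂.2.2.1
  obtain ⟨g, φ, h⟩ := exists_conj_of_connected f₁ f₂ ((isMaximalTorus_comp_iff u hr f₁).1 h₁)
    ((isMaximalTorus_comp_iff u hr f₂).1 h₂)
  refine ⟨g ≫ u, φ, ?_⟩
  rw [← Category.assoc φ.hom, ← h, conjIso_hom_comp, comp_conjIso_hom]

end Groth.Agent.Sga3.H784.Conj
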