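import Groth.Agent.Sga3B.Pts
import Mathlib.AlgebraicGeometry.Sites.Fpqc
import Mathlib.AlgebraicGeometry.Morphisms.Flat
import Mathlib.CategoryTheory.Monoidal.Cartesian.Over
import Mathlib.AlgebraicGeometry.Limits

/-!
# Descent of morphisms (over a base) along flat surjective quasi-compact morphisms

`p : A ⟶ B` in `Over S` with `p.left` flat, surjective, quasi-compact.

* `epi_of_cover` : `p` is an epimorphism;
* `exists_desc` : morphisms compatible on points with the same image descend;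
* `exists_lift_cover` : points of `B` lift to `A` after a base change of `p`;
* `isMonHom_desc` : if `p` and `p ≫ g` are homomorphisms then so is `g`;
* `mono_of_ker` : a homomorphism which is trivial only on trivial points is a monomorphism.
-/

set_option autoImplicit false

universe u

open CategoryTheory MonoidalCategory CartesianMonoidalCategory MonObj GrpObj AlgebraicGeometry
open CategoryTheory.Limits

namespace Groth.Agent.Sga3.H784.FlatDesc

variable {S : Scheme.{u}} {A B G : Over S}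

lemma epi_of_cover (p : A ⟶ B) [Surjective p.left] [Flat p.left] : Epi p := by
  have : Epi p.left := Flat.epi_of_flat_of_surjective _
  exact (Over.forget S).epi_of_epi_map this

/-- Descent of morphisms. -/
theorem exists_desc (p : A ⟶ B) [Surjective p.left] [Flat p.left] [QuasiCompact p.left] (f : A ⟶ G)
    (h : ∀ (P : Over S) (t t' : P ⟶ A), t ≫ p = t' ≫ p → t ≫ f = t' ≫ f) :
    ∃ g : B ⟶ G, p ≫ g = f := by
  have he : Epi p := epi_of_cover p
  have hc : ∀ {Z : Scheme.{u}} (g₁ g₂ : Z ⟶ A.left), g₁ ≫ p.left = g₂ ≫ p.left →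
      g₁ ≫ f.left = g₂ ≫ f.left := by
    intro Z g₁ g₂ hg
    have h2 : g₂ ≫ A.hom = g₁ ≫ A.hom := by
      rw [← Over.w p, ← Category.assoc, ← Category.assoc, hg]
    let t : Over.mk (g₁ ≫ A.hom) ⟶ A := Over.homMk g₁ rfl
    let t' : Over.mk (g₁ ≫ A.hom) ⟶ A := Over.homMk g₂ h2
    have h3 : t ≫ p = t' ≫ p := by
      ext1
      exact hg
    exact congrArg (fun q => q.left) (h _ t t' h3)
  let g : B.left ⟶ G.left := EffectiveEpi.desc p.left f.left hc
  have hg : p.left ≫ g = f.left := EffectiveEpi.fac p.left f.left hc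
  have hgS : g ≫ G.hom = B.hom := by
    have : Epi p.left := Flat.epi_of_flat_of_surjective _
    rw [← cancel_epi p.left, ← Category.assoc, hg, Over.w f, Over.w p]
  refine ⟨Over.homMk g hgS, ?_⟩
  ext1
  exact hg

/-- Points lift after a covering. -/
theorem exists_lift_cover (p : A ⟶ B) [Surjective p.left] [Flat p.left] [QuasiCompact p.left]
    {X : Over S} (x : X ⟶ B) :
    ∃ (X' : Over S) (c : X' ⟶ X) (y : X' ⟶ A), Surjective c.left ∧ Flat c.left ∧
      QuasiCompact c.left ∧ Epi c ∧ c ≫ x = y ≫ p := by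
  let P := pullback x.left p.left
  let X' : Over S := Over.mk (pullback.fst x.left p.left ≫ X.hom)
  let c : X' ⟶ X := Over.homMk (pullback.fst x.left p.left) rfl
  have h1 : pullback.snd x.left p.left ≫ A.hom = pullback.fst x.left p.left ≫ X.hom := by
    rw [← Over.w p, ← Over.w x, ← Category.assoc, ← Category.assoc, pullback.condition]
  let y : X' ⟶ A := Over.homMk (pullback.snd x.left p.left) h1
  have hs : Surjective c.left := inferInstanceAs (Surjective (pullback.fst x.left p.left))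
  have hf : Flat c.left := inferInstanceAs (Flat (pullback.fst x.left p.left))
  have hq : QuasiCompact c.left := inferInstanceAs (QuasiCompact (pullback.fst x.left p.left))
  refine ⟨X', c, y, hs, hf, hq, epi_of_cover c, ?_⟩
  ext1
  exact pullback.condition

/-- Homomorphisms descend to homomorphisms. -/
theorem isMonHom_desc [GrpObj A] [GrpObj B] [GrpObj G] (p : A ⟶ B) [Surjective p.left]
    [Flat p.left] [QuasiCompact p.left] [IsMonHom p] (g : B ⟶ G) (h : IsMonHom (p ≫ g)) :
    IsMonHom g := by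
  apply Groth.Agent.Sga3B.Pts.isMonHom_of_points
  intro X x y
  obtain ⟨X₁, c₁, x₁, _, _, _, hc₁, hx₁⟩ := exists_lift_cover p x
  obtain ⟨X₂, c₂, y₂, _, _, _, hc₂, hy₂⟩ := exists_lift_cover p (c₁ ≫ y)
  rw [← cancel_epi c₁, ← cancel_epi c₂]
  have h1 : c₂ ≫ c₁ ≫ x = (c₂ ≫ x₁) ≫ p := by rw [hx₁, Category.assoc]
  have h2 : c₂ ≫ c₁ ≫ y = y₂ ≫ p := hy₂
  have e1 : c₂ ≫ c₁ ≫ (x * y) ≫ g = (((c₂ ≫ x₁) * y₂) ≫ p) ≫ g := by
    rw [MonObj.mul_comp (c₂ ≫ x₁) y₂ p, ← h1, ← h2, ← MonObj.comp_mul, ← MonObj.comp_mul]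
    simp only [Category.assoc]
  have e2 : c₂ ≫ c₁ ≫ ((x ≫ g) * (y ≫ g)) =
      ((c₂ ≫ x₁) ≫ (p ≫ g)) * (y₂ ≫ (p ≫ g)) := by
    rw [← Category.assoc (c₂ ≫ x₁) p g, ← Category.assoc y₂ p g, ← h1, ← h2, MonObj.comp_mul,
      MonObj.comp_mul]
    simp only [Category.assoc]
  rw [e1, e2, Category.assoc, MonObj.mul_comp (c₂ ≫ x₁) y₂ (p ≫ g)]

/-- A homomorphism with trivial kernel is a monomorphism. -/
theorem mono_of_ker {C : Type*} [Category C] [CartesianMonoidalCategory C] {B G : C} [GrpObj B]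
    [GrpObj G] (g : B ⟶ G) [IsMonHom g]
    (h : ∀ (X : C) (x : X ⟶ B), x ≫ g = 1 → x = 1) : Mono g := by
  constructor
  intro X x y hxy
  have h1 : (x * y⁻¹) ≫ g = 1 := by
    rw [MonObj.mul_comp, GrpObj.inv_comp, hxy, mul_inv_cancel]
  have h2 := h X _ h1
  rwa [mul_inv_eq_one] at h2

end Groth.Agent.Sga3.H784.FlatDesc
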