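import Groth.Agent.Sga3.H784.DiagKer
import Groth.Agent.Sga3.H784.FlatDesc
import Groth.Agent.Sga3B.RG.BrTorus
import Groth.Agent.Sga3B.RG.BrImg
import Groth.Agent.Books.AffBridge2
import Groth.Agent.Books.CoidealFlat
import Groth.Agent.Fdesc.GrpDimHom
import Groth.Agent.Localalg.GrpSchComp2

/-!
# The image of a torus in an arbitrary group scheme over an algebraically closed field is a torus

`exists_image_torus`: a homomorphism `φ : T ⟶ G` from a torus to a group scheme over `K` (algebraically closed)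
is the composition of a flat surjective homomorphism onto a torus and a monomorphism.
-/

set_option autoImplicit false

universe u

open CategoryTheory MonoidalCategory CartesianMonoidalCategory MonObj GrpObj AlgebraicGeometry
open Groth.Agent.Books.AffBridge Groth.Agent.Books.AffBridge2

namespace Groth.Agent.Sga3.H784.ImgTorus

open Sga3B.RG Sga3B.RG.BrPts Sga3B.RG.BrTorus Sga3B.RG.BrImg Sga3B.RG.BrDiag
open Groth.Agent.Fdesc.GrpDimHom

variable {K : Type u} [Field K]

/-- The morphism of diagonalizable groups attached to an injection of character groups is flat and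
surjective. -/
lemma flat_surjective_specMap {Γ Γ' : Type} [CommGroup Γ] [CommGroup Γ'] (q : Γ' →* Γ)
    (hq : Function.Injective q) :
    Flat (specMap K (MonoidAlgebra.mapDomainBialgHom K q :
      MonoidAlgebra K Γ' →ₐ[K] MonoidAlgebra K Γ)).left ∧
    Surjective (specMap K (MonoidAlgebra.mapDomainBialgHom K q :
      MonoidAlgebra K Γ' →ₐ[K] MonoidAlgebra K Γ)).left := by
  rw [flat_and_surjective_specMap_iff]
  exact Groth.Agent.Books.CoidealFlat.faithfullyFlat_of_injective
    (MonoidAlgebra.mapDomainBialgHom K q) (mapDomain_injective q hq)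

/-- The factorisation of a homomorphism from a split torus over its kernel. -/
theorem exists_factor_split {G : Over (Spec (CommRingCat.of K))} [GrpObj G] {n : ℕ}
    (φ : SpecOver K (KZ K n) ⟶ G) [IsMonHom φ] :
    ∃ (r : ℕ) (p : SpecOver K (KZ K n) ⟶ SpecOver K (KZ K r)) (i : SpecOver K (KZ K r) ⟶ G),
      IsMonHom p ∧ IsMonHom i ∧ Mono i ∧ Surjective p.left ∧ Flat p.left ∧ p ≫ i = φ := by
  have hsep := Groth.Agent.Localalg.GrpSchComp2.isSeparated_hom G
  let _ : GrpObj (ker φ) := kerGrp φ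
  have hkm : IsMonHom (kerι φ) :=
    { one_hom := kerLift_comp _ _ _
      mul_hom := kerLift_comp _ _ _ }
  have hη : IsClosedImmersion (η[G] : 𝟙_ (Over (Spec (CommRingCat.of K))) ⟶ G).left := by
    have h1 : (η[G] : 𝟙_ (Over (Spec (CommRingCat.of K))) ⟶ G).left ≫ G.hom = 𝟙 _ := Over.w η[G]
    have h2 : IsClosedImmersion ((η[G] : 𝟙_ (Over (Spec (CommRingCat.of K))) ⟶ G).left ≫ G.hom) := by
      rw [h1]; infer_instance
    exact IsClosedImmersion.of_comp _ G.hom
  have hkc : IsClosedImmersion (kerι φ).left :=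
    inferInstanceAs (IsClosedImmersion (Limits.pullback.fst φ.left
      (η[G] : 𝟙_ (Over (Spec (CommRingCat.of K))) ⟶ G).left))
  obtain ⟨I, hI, e, he, hei⟩ := exists_hopfIdeal K (kerι φ)
  obtain ⟨r, q, hq, hΔ⟩ := exists_free n (DiagKer.triv (K := K) I)
  have hIeq := DiagKer.eq_map_ker_counit (K := K) q I hΔ
  let p : SpecOver K (KZ K n) ⟶ SpecOver K (KZ K r) :=
    specMap K (MonoidAlgebra.mapDomainBialgHom K q :
      MonoidAlgebra K (Multiplicative (Fin r → ℤ)) →ₐ[K] MonoidAlgebra K (Multiplicative (Fin n → ℤ)))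
  have hpm : IsMonHom p := isMonHom_specMap K (MonoidAlgebra.mapDomainBialgHom K q)
  obtain ⟨hpf, hps⟩ := flat_surjective_specMap (K := K) q hq
  have hpf' : Flat p.left := hpf
  have hps' : Surjective p.left := hps
  have hpq : QuasiCompact p.left :=
    inferInstanceAs (QuasiCompact (Spec.map (CommRingCat.ofHom
      (MonoidAlgebra.mapDomainBialgHom K q : KZ K r →ₐ[K] KZ K n).toRingHom)))
  have hker := isKernel_specMap K (MonoidAlgebra.mapDomainBialgHom K q : KZ K r →ₐ[K] KZ K n) I hIeq
  -- points killed by `p` are the points killed by `φ`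
  have hpφ : ∀ (X : Over (Spec (CommRingCat.of K))) (x : X ⟶ SpecOver K (KZ K n)),
      x ≫ p = 1 ↔ x ≫ φ = 1 := by
    intro X x
    constructor
    · intro h
      have h1 : x ≫ p = toUnit X ≫ η[SpecOver K (KZ K r)] := by rw [h, Hom.one_def]
      let y := hker.lift x (toUnit X) h1
      have hy : y ≫ specMap K (Ideal.Quotient.mkₐ K I) = x := hker.lift_fst _ _ _
      have h2 : x = (y ≫ e.inv) ≫ kerι φ := by
        rw [← hei, Category.assoc, Iso.inv_hom_id_assoc, hy]
      rw [h2, Category.assoc, kerι_comp, MonObj.comp_one]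
    · intro h
      obtain ⟨y, hy⟩ := exists_lift φ x h
      have h2 : x = (y ≫ e.hom) ≫ specMap K (Ideal.Quotient.mkₐ K I) := by
        rw [Category.assoc, hei, hy]
      rw [h2, Category.assoc]
      have h3 : specMap K (Ideal.Quotient.mkₐ K I) ≫ p = 1 := by
        rw [Hom.one_def]
        exact hker.w
      rw [h3, MonObj.comp_one]
  obtain ⟨i, hi⟩ := FlatDesc.exists_desc p φ (fun P t t' h => by
    have h1 : (t * t'⁻¹) ≫ p = 1 := by
      have h0 : t'⁻¹ ≫ p = (t' ≫ p)⁻¹ := @GrpObj.inv_comp _ _ _ _ _ _ _ _ t' p hpm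
      rw [@MonObj.mul_comp _ _ _ _ _ _ _ _ t t'⁻¹ p hpm, h0, h, mul_inv_cancel]
    have h2 := (hpφ P _).1 h1
    rw [MonObj.mul_comp, GrpObj.inv_comp, mul_inv_eq_one] at h2
    exact h2)
  have him : IsMonHom i := @FlatDesc.isMonHom_desc (Spec (CommRingCat.of K)) (SpecOver K (KZ K n))
    (SpecOver K (KZ K r)) G _ _ _ p hps' hpf' hpq hpm i (by rw [hi]; infer_instance)
  refine ⟨r, p, i, hpm, him, ?_, hps', hpf', hi⟩
  apply FlatDesc.mono_of_ker
  intro X x hx
  obtain ⟨X', c, y, _, _, _, hc, hy⟩ := FlatDesc.exists_lift_cover p x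
  have h1 : y ≫ φ = 1 := by
    rw [← hi, ← Category.assoc, ← hy, Category.assoc, hx, MonObj.comp_one]
  rw [← cancel_epi c, hy, (hpφ _ _).2 h1, MonObj.comp_one]

variable [IsAlgClosed K]

/-- **The image of a torus is a torus.** -/
theorem exists_image_torus {G T : Over (Spec (CommRingCat.of K))} [GrpObj G] [GrpObj T]
    (φ : T ⟶ G) [IsMonHom φ] (hT : Red.IsTorus T) :
    ∃ (Q : Over (Spec (CommRingCat.of K))) (_ : GrpObj Q) (p : T ⟶ Q) (i : Q ⟶ G),
      Red.IsTorus Q ∧ IsMonHom p ∧ IsMonHom i ∧ Mono i ∧ Surjective p.left ∧ Flat p.left ∧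
        p ≫ i = φ := by
  obtain ⟨n, e, he⟩ := isTorus_iff.1 hT
  have hei : IsMonHom e.inv := inferInstance
  have hm : IsMonHom (e.inv ≫ φ) := inferInstance
  obtain ⟨r, p, i, hp, hi, hmono, hs, hf, hpi⟩ := exists_factor_split (e.inv ≫ φ)
  have : IsIso e.hom.left := inferInstanceAs (IsIso ((Over.forget _).map e.hom))
  refine ⟨SpecOver K (KZ K r), inferInstance, e.hom ≫ p, i, isTorus_KZ r, inferInstance, hi,
    hmono, ?_, ?_, ?_⟩
  · rw [Over.comp_left]; infer_instance
  · rw [Over.comp_left]; infer_instance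
  · rw [Category.assoc, hpi, Iso.hom_inv_id_assoc]

end Groth.Agent.Sga3.H784.ImgTorus
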