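import Groth.Agent.Sga3.H784.Torsion
import Groth.Agent.Sga3.H784.ImgTorus
import Groth.Agent.Sga3B.RG.BrMax
import Groth.Agent.Sga3B.Pts
import Groth.Agent.Sga3C.SubGrp

/-!
# Commuting tori over an algebraically closed field

* `commute_of_central`: tori in `G` whose images modulo a central subgroup commute, commute;
* `exists_torus_of_commute`: two commuting tori are contained in a torus;
* `exists_factor_of_commute`: a torus commuting with a maximal torus is contained in it.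
-/

set_option autoImplicit false

universe u

open CategoryTheory MonoidalCategory CartesianMonoidalCategory MonObj GrpObj AlgebraicGeometry
open Groth.Agent.Books.AffBridge Groth.Agent.Books.AffBridge2

namespace Groth.Agent.Sga3.H784.Commute

open Sga3B.RG Sga3B.RG.BrPts Sga3B.RG.BrTorus Sga3B.RG.BrImg Sga3B.RG.BrDiag Sga3B.RG.BrMax
open Books.AlgPts Books.AlgPtsSmooth

variable {K : Type u} [Field K] [IsAlgClosed K]

/-- Postcomposition with a homomorphism, as a homomorphism of groups of points. -/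
def ptHom {C : Type*} [Category C] [CartesianMonoidalCategory C] {G H : C} [GrpObj G] [GrpObj H]
    (X : C) (f : G ⟶ H) [IsMonHom f] : (X ⟶ G) →* (X ⟶ H) where
  toFun x := x ≫ f
  map_one' := MonObj.one_comp f
  map_mul' x y := MonObj.mul_comp x y f

lemma isMonHom_of_pts {C : Type*} [Category C] [CartesianMonoidalCategory C] {G H : C} [MonObj G]
    [GrpObj H] (f : G ⟶ H) (h : ∀ (X : C) (x y : X ⟶ G), (x * y) ≫ f = (x ≫ f) * (y ≫ f)) :
    IsMonHom f where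
  one_hom := by
    have h1 := h (𝟙_ C) η[G] η[G]
    rw [one_eq_one, _root_.mul_one] at h1
    rw [one_eq_one, one_eq_one]
    exact (mul_eq_left.mp h1.symm)
  mul_hom := by
    have h1 := h (G ⊗ G) (fst G G) (snd G G)
    rw [← mul_eq_mul] at h1
    rw [h1, mul_eq_mul, MonObj.comp_mul, tensorHom_fst, tensorHom_snd]

/-- Morphisms from a torus to a group scheme which agree on rational torsion points are equal. -/
theorem hom_ext_torsion {T G : Over (Spec (CommRingCat.of K))} [GrpObj T] [GrpObj G]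
    (hT : Red.IsTorus T) (f g : T ⟶ G)
    (h : ∀ x : 𝟙_ (Over (Spec (CommRingCat.of K))) ⟶ T, (∃ m : ℕ, 0 < m ∧ x ^ m = 1) →
      x ≫ f = x ≫ g) : f = g := by
  have hsep := Groth.Agent.Localalg.GrpSchComp2.isSeparated_hom G
  obtain ⟨n, e, he⟩ := isTorus_iff.1 hT
  have hei : IsMonHom e.inv := inferInstance
  rw [← cancel_epi e.inv]
  refine Torsion.hom_ext_of_torsion _ _ fun x hx => ?_
  obtain ⟨m, hm, hxm⟩ := hx
  rw [← Category.assoc, ← Category.assoc]
  refine h _ ⟨m, hm, ?_⟩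
  have h1 := map_pow ((ptHom _ e.inv).comp (ptEquiv K (KZ K n)).toMonoidHom) x m
  rw [hxm, map_one] at h1
  exact h1.symm

/-- The group of rational points of a torus is divisible. -/
theorem exists_pow_eq {T : Over (Spec (CommRingCat.of K))} [GrpObj T]
    (hT : Red.IsTorus T) (x : 𝟙_ (Over (Spec (CommRingCat.of K))) ⟶ T) {m : ℕ} (hm : 0 < m) :
    ∃ y : 𝟙_ (Over (Spec (CommRingCat.of K))) ⟶ T, y ^ m = x := by
  obtain ⟨n, e, he⟩ := isTorus_iff.1 hT
  have hei : IsMonHom e.inv := inferInstance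
  obtain ⟨z, hz⟩ := Torsion.exists_pow_eq ((ptEquiv K (KZ K n)).symm (x ≫ e.hom)) hm
  refine ⟨ptEquiv K (KZ K n) z ≫ e.inv, ?_⟩
  have h1 := map_pow ((ptHom _ e.inv).comp (ptEquiv K (KZ K n)).toMonoidHom) z m
  refine h1.symm.trans ?_
  rw [hz]
  change ptEquiv K (KZ K n) ((ptEquiv K (KZ K n)).symm (x ≫ e.hom)) ≫ e.inv = x
  rw [MulEquiv.apply_symm_apply, Category.assoc, Iso.hom_inv_id, Category.comp_id]

lemma lft_of_isTorus {T : Over (Spec (CommRingCat.of K))} [GrpObj T] (hT : Red.IsTorus T) :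
    LocallyOfFiniteType T.hom := by
  obtain ⟨n, e, he⟩ := isTorus_iff.1 hT
  have h1 : LocallyOfFiniteType (SpecOver K (KZ K n)).hom := lft_specOver _
  have : IsIso e.hom.left := inferInstanceAs (IsIso ((Over.forget _).map e.hom))
  rw [hom_eq_of_iso e]
  infer_instance

lemma smooth_of_isTorus {T : Over (Spec (CommRingCat.of K))} [GrpObj T] (hT : Red.IsTorus T) :
    Smooth T.hom := by
  obtain ⟨n, e, he⟩ := isTorus_iff.1 hT
  have h1 : Smooth (SpecOver K (KZ K n)).hom := (smooth_iff (K := K) (KZ K n)).2 inferInstance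
  have : IsIso e.hom.left := inferInstanceAs (IsIso ((Over.forget _).map e.hom))
  rw [hom_eq_of_iso e]
  infer_instance

/-- Two tori whose rational points commute, commute. -/
theorem commute_of_points {G T₁ T₂ : Over (Spec (CommRingCat.of K))} [GrpObj G] [GrpObj T₁]
    [GrpObj T₂] (i₁ : T₁ ⟶ G) (i₂ : T₂ ⟶ G) (h₁ : Red.IsTorus T₁) (h₂ : Red.IsTorus T₂)
    (hc : ∀ (t : 𝟙_ (Over (Spec (CommRingCat.of K))) ⟶ T₁)
      (r : 𝟙_ (Over (Spec (CommRingCat.of K))) ⟶ T₂), (t ≫ i₁) * (r ≫ i₂) = (r ≫ i₂) * (t ≫ i₁))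
    {X : Over (Spec (CommRingCat.of K))} (t : X ⟶ T₁) (r : X ⟶ T₂) :
    (t ≫ i₁) * (r ≫ i₂) = (r ≫ i₂) * (t ≫ i₁) := by
  have hsep := Groth.Agent.Localalg.GrpSchComp2.isSeparated_hom G
  have hs₁ := smooth_of_isTorus h₁
  have hs₂ := smooth_of_isTorus h₂
  have hsm : Smooth (T₁ ⊗ T₂).hom := by
    rw [Over.tensorObj_hom]
    infer_instance
  have hred : IsReduced (T₁ ⊗ T₂).left := isReduced_of_smooth (T₁ ⊗ T₂)
  have key : (fst T₁ T₂ ≫ i₁) * (snd T₁ T₂ ≫ i₂) = (snd T₁ T₂ ≫ i₂) * (fst T₁ T₂ ≫ i₁) := by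
    refine hom_ext_of_points _ _ fun x => ?_
    rw [MonObj.comp_mul, MonObj.comp_mul, ← Category.assoc, ← Category.assoc]
    exact hc _ _
  have h := congrArg (fun q => lift t r ≫ q) key
  simp only [MonObj.comp_mul, ← Category.assoc, lift_fst, lift_snd] at h
  exact h

/-- **Tori which commute modulo a central subgroup commute.** -/
theorem commute_of_central {G Q T₁ T₂ : Over (Spec (CommRingCat.of K))} [GrpObj G] [GrpObj Q]
    [GrpObj T₁] [GrpObj T₂] (q : G ⟶ Q) [IsMonHom q]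
    (hq : ∀ (z g : 𝟙_ (Over (Spec (CommRingCat.of K))) ⟶ G), z ≫ q = 1 → z * g = g * z)
    (i₁ : T₁ ⟶ G) [IsMonHom i₁] (i₂ : T₂ ⟶ G) [IsMonHom i₂] (h₁ : Red.IsTorus T₁)
    (h₂ : Red.IsTorus T₂)
    (hc : ∀ (t : 𝟙_ (Over (Spec (CommRingCat.of K))) ⟶ T₁)
      (r : 𝟙_ (Over (Spec (CommRingCat.of K))) ⟶ T₂),
      (t ≫ i₁ ≫ q) * (r ≫ i₂ ≫ q) = (r ≫ i₂ ≫ q) * (t ≫ i₁ ≫ q))
    {X : Over (Spec (CommRingCat.of K))} (t : X ⟶ T₁) (r : X ⟶ T₂) :
    (t ≫ i₁) * (r ≫ i₂) = (r ≫ i₂) * (t ≫ i₁) := by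
  refine commute_of_points i₁ i₂ h₁ h₂ (fun t r => ?_) t r
  -- commutators of points are central
  have hcen : ∀ (t : 𝟙_ (Over (Spec (CommRingCat.of K))) ⟶ T₁)
      (s : 𝟙_ (Over (Spec (CommRingCat.of K))) ⟶ T₂) (a : 𝟙_ (Over (Spec (CommRingCat.of K))) ⟶ G),
      Commute ((t ≫ i₁) * (s ≫ i₂) * (t ≫ i₁)⁻¹ * (s ≫ i₂)⁻¹) a := by
    intro t s a
    refine hq _ _ ?_
    rw [MonObj.mul_comp, MonObj.mul_comp, MonObj.mul_comp, GrpObj.inv_comp, GrpObj.inv_comp,
      Category.assoc, Category.assoc, hc t s]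
    group
  have key : i₁ * (toUnit T₁ ≫ r ≫ i₂) = (toUnit T₁ ≫ r ≫ i₂) * i₁ := by
    refine hom_ext_torsion h₁ _ _ fun x hx => ?_
    obtain ⟨m, hm, hxm⟩ := hx
    obtain ⟨s, hs⟩ := exists_pow_eq h₂ r hm
    have h3 : (x ≫ i₁) ^ m = 1 := by
      have := map_pow (ptHom (𝟙_ (Over (Spec (CommRingCat.of K)))) i₁) x m
      rw [hxm, map_one] at this
      exact this.symm
    have h4 : (s ≫ i₂) ^ m = r ≫ i₂ := by
      have := map_pow (ptHom (𝟙_ (Over (Spec (CommRingCat.of K)))) i₂) s m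
      rw [hs] at this
      exact this.symm
    have h5 := Torsion.commute_of_torsion h3 (hcen x s)
    rw [h4] at h5
    have h6 : x ≫ toUnit T₁ = 𝟙 _ := toUnit_unique _ _
    have h7 : x ≫ toUnit T₁ ≫ r ≫ i₂ = r ≫ i₂ := by
      rw [← Category.assoc, h6, Category.id_comp]
    rw [MonObj.comp_mul, MonObj.comp_mul, h7]
    exact h5
  have h := congrArg (fun q => t ≫ q) key
  have h6 : t ≫ toUnit T₁ = 𝟙 _ := toUnit_unique _ _
  have h7 : t ≫ toUnit T₁ ≫ r ≫ i₂ = r ≫ i₂ := by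
    rw [← Category.assoc, h6, Category.id_comp]
  simp only [MonObj.comp_mul, h7] at h
  exact h

section diag

variable {Γ Γ' Γ'' : Type} [CommGroup Γ] [CommGroup Γ'] [CommGroup Γ'']

variable (K) in
/-- The homomorphism of diagonalizable groups attached to a homomorphism of character groups. -/
noncomputable def D (q : Γ' →* Γ) :
    SpecOver K (MonoidAlgebra K Γ) ⟶ SpecOver K (MonoidAlgebra K Γ') :=
  specMap K (MonoidAlgebra.mapDomainBialgHom K q : MonoidAlgebra K Γ' →ₐ[K] MonoidAlgebra K Γ)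

omit [IsAlgClosed K] in
instance isMonHom_D (q : Γ' →* Γ) : IsMonHom (D K q) :=
  isMonHom_specMap K (MonoidAlgebra.mapDomainBialgHom K q)

omit [IsAlgClosed K] in
lemma D_comp (q : Γ' →* Γ) (p : Γ'' →* Γ') : D K q ≫ D K p = D K (q.comp p) := by
  rw [D, D, ← specMap_comp, D]
  congr 1
  apply MonoidAlgebra.algHom_ext
  swap
  · exact Subsingleton.elim _ _
  intro m
  change MonoidAlgebra.mapDomainBialgHom K q (MonoidAlgebra.mapDomainBialgHom K p _) =
    MonoidAlgebra.mapDomainBialgHom K (q.comp p) _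
  rw [MonoidAlgebra.mapDomainBialgHom_single, MonoidAlgebra.mapDomainBialgHom_single,
    MonoidAlgebra.mapDomainBialgHom_single, MonoidHom.comp_apply]

omit [IsAlgClosed K] in
lemma D_id : D K (MonoidHom.id Γ) = 𝟙 _ := by
  have h : (MonoidAlgebra.mapDomainBialgHom K (MonoidHom.id Γ) :
      MonoidAlgebra K Γ →ₐ[K] MonoidAlgebra K Γ) = AlgHom.id K _ := by
    apply MonoidAlgebra.algHom_ext
    swap
    · exact Subsingleton.elim _ _
    intro m
    change MonoidAlgebra.mapDomainBialgHom K (MonoidHom.id Γ) _ = _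
    rw [MonoidAlgebra.mapDomainBialgHom_single]
    rfl
  rw [D, h, specMap_id]

omit [IsAlgClosed K] in
lemma D_one : D K (1 : Γ' →* Γ) = 1 := by
  have h : (MonoidAlgebra.mapDomainBialgHom K (1 : Γ' →* Γ) :
      MonoidAlgebra K Γ' →ₐ[K] MonoidAlgebra K Γ) =
      (Algebra.ofId K (MonoidAlgebra K Γ)).comp (Bialgebra.counitAlgHom K (MonoidAlgebra K Γ')) := by
    apply MonoidAlgebra.algHom_ext
    swap
    · exact Subsingleton.elim _ _
    intro m
    change MonoidAlgebra.mapDomainBialgHom K (1 : Γ' →* Γ) _ =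
      Algebra.ofId K _ (Coalgebra.counit (R := K) (MonoidAlgebra.single m (1 : K)))
    rw [MonoidAlgebra.mapDomainBialgHom_single, MonoidAlgebra.counit_single]
    simp
  have h1 := specMap_one (k := K) (A := MonoidAlgebra K Γ') (R := MonoidAlgebra K Γ)
  rw [← h1, D, h]
  congr 1

end diag

/-- The two inclusions of and projections from a split torus. -/
lemma exists_split (n₁ n₂ : ℕ) : ∃ (ι₁ : Multiplicative (Fin n₁ → ℤ) →* Multiplicative (Fin (n₁ + n₂) → ℤ))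
    (ι₂ : Multiplicative (Fin n₂ → ℤ) →* Multiplicative (Fin (n₁ + n₂) → ℤ))
    (p₁ : Multiplicative (Fin (n₁ + n₂) → ℤ) →* Multiplicative (Fin n₁ → ℤ))
    (p₂ : Multiplicative (Fin (n₁ + n₂) → ℤ) →* Multiplicative (Fin n₂ → ℤ)),
    p₁.comp ι₁ = MonoidHom.id _ ∧ p₂.comp ι₂ = MonoidHom.id _ ∧ p₁.comp ι₂ = 1 ∧ p₂.comp ι₁ = 1 := by
  let i₁ : (Fin n₁ → ℤ) →+ (Fin (n₁ + n₂) → ℤ) :=
    { toFun := fun f => Fin.append f 0
      map_zero' := by
        funext k
        refine Fin.addCases (fun i => ?_) (fun i => ?_) k <;> simp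
      map_add' := fun f g => by
        funext k
        refine Fin.addCases (fun i => ?_) (fun i => ?_) k <;> simp }
  let i₂ : (Fin n₂ → ℤ) →+ (Fin (n₁ + n₂) → ℤ) :=
    { toFun := fun f => Fin.append 0 f
      map_zero' := by
        funext k
        refine Fin.addCases (fun i => ?_) (fun i => ?_) k <;> simp
      map_add' := fun f g => by
        funext k
        refine Fin.addCases (fun i => ?_) (fun i => ?_) k <;> simp }
  let q₁ : (Fin (n₁ + n₂) → ℤ) →+ (Fin n₁ → ℤ) :=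
    { toFun := fun f i => f (Fin.castAdd n₂ i)
      map_zero' := rfl
      map_add' := fun f g => rfl }
  let q₂ : (Fin (n₁ + n₂) → ℤ) →+ (Fin n₂ → ℤ) :=
    { toFun := fun f i => f (Fin.natAdd n₁ i)
      map_zero' := rfl
      map_add' := fun f g => rfl }
  refine ⟨AddMonoidHom.toMultiplicative i₁, AddMonoidHom.toMultiplicative i₂,
    AddMonoidHom.toMultiplicative q₁, AddMonoidHom.toMultiplicative q₂, ?_, ?_, ?_, ?_⟩
  · refine MonoidHom.ext fun f => ?_
    change Multiplicative.ofAdd (q₁ (i₁ (Multiplicative.toAdd f))) = f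
    have : q₁ (i₁ (Multiplicative.toAdd f)) = Multiplicative.toAdd f := by
      funext i
      simp [q₁, i₁]
    rw [this]
    rfl
  · refine MonoidHom.ext fun f => ?_
    change Multiplicative.ofAdd (q₂ (i₂ (Multiplicative.toAdd f))) = f
    have : q₂ (i₂ (Multiplicative.toAdd f)) = Multiplicative.toAdd f := by
      funext i
      simp [q₂, i₂]
    rw [this]
    rfl
  · refine MonoidHom.ext fun f => ?_
    change Multiplicative.ofAdd (q₁ (i₂ (Multiplicative.toAdd f))) = 1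
    have : q₁ (i₂ (Multiplicative.toAdd f)) = 0 := by
      funext i
      simp [q₁, i₂]
    rw [this]
    rfl
  · refine MonoidHom.ext fun f => ?_
    change Multiplicative.ofAdd (q₂ (i₁ (Multiplicative.toAdd f))) = 1
    have : q₂ (i₁ (Multiplicative.toAdd f)) = 0 := by
      funext i
      simp [q₂, i₁]
    rw [this]
    rfl

/-- Two commuting tori are contained in a torus. -/
theorem exists_torus_of_commute {G T₁ T₂ : Over (Spec (CommRingCat.of K))} [GrpObj G] [GrpObj T₁]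
    [GrpObj T₂] (i₁ : T₁ ⟶ G) [IsMonHom i₁] (i₂ : T₂ ⟶ G) [IsMonHom i₂] (h₁ : Red.IsTorus T₁)
    (h₂ : Red.IsTorus T₂)
    (hc : ∀ (t : 𝟙_ (Over (Spec (CommRingCat.of K))) ⟶ T₁)
      (r : 𝟙_ (Over (Spec (CommRingCat.of K))) ⟶ T₂), (t ≫ i₁) * (r ≫ i₂) = (r ≫ i₂) * (t ≫ i₁)) :
    ∃ (Q : Over (Spec (CommRingCat.of K))) (_ : GrpObj Q) (i : Q ⟶ G) (f₁ : T₁ ⟶ Q) (f₂ : T₂ ⟶ Q),
      Red.IsTorus Q ∧ IsMonHom i ∧ Mono i ∧ IsMonHom f₁ ∧ IsMonHom f₂ ∧ f₁ ≫ i = i₁ ∧
        f₂ ≫ i = i₂ := by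
  obtain ⟨n₁, e₁, he₁⟩ := isTorus_iff.1 h₁
  obtain ⟨n₂, e₂, he₂⟩ := isTorus_iff.1 h₂
  have hei₁ : IsMonHom e₁.inv := inferInstance
  have hei₂ : IsMonHom e₂.inv := inferInstance
  obtain ⟨ι₁, ι₂, p₁, p₂, h11, h22, h12, h21⟩ := exists_split n₁ n₂
  let a₁ : SpecOver K (KZ K (n₁ + n₂)) ⟶ T₁ := D K ι₁ ≫ e₁.inv
  let a₂ : SpecOver K (KZ K (n₁ + n₂)) ⟶ T₂ := D K ι₂ ≫ e₂.inv
  have ha₁ : IsMonHom a₁ := inferInstanceAs (IsMonHom (D K ι₁ ≫ e₁.inv))
  have ha₂ : IsMonHom a₂ := inferInstanceAs (IsMonHom (D K ι₂ ≫ e₂.inv))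
  let φ : SpecOver K (KZ K (n₁ + n₂)) ⟶ G := (a₁ ≫ i₁) * (a₂ ≫ i₂)
  have hφ : IsMonHom φ := by
    apply isMonHom_of_pts
    intro X x y
    have hcc := commute_of_points i₁ i₂ h₁ h₂ hc (y ≫ a₁) (x ≫ a₂)
    simp only [φ, MonObj.comp_mul, ← Category.assoc] at hcc ⊢
    rw [MonObj.mul_comp, MonObj.mul_comp, MonObj.mul_comp, MonObj.mul_comp]
    exact Commute.mul_mul_mul_comm hcc _ _
  let s₁ : T₁ ⟶ SpecOver K (KZ K (n₁ + n₂)) := e₁.hom ≫ D K p₁
  let s₂ : T₂ ⟶ SpecOver K (KZ K (n₁ + n₂)) := e₂.hom ≫ D K p₂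
  have hs₁ : IsMonHom s₁ := inferInstanceAs (IsMonHom (e₁.hom ≫ D K p₁))
  have hs₂ : IsMonHom s₂ := inferInstanceAs (IsMonHom (e₂.hom ≫ D K p₂))
  have h1 : s₁ ≫ φ = i₁ := by
    have ha : s₁ ≫ a₁ = 𝟙 _ := by
      simp only [s₁, a₁, Category.assoc]
      rw [← Category.assoc (D K p₁), D_comp, h11, D_id, Category.id_comp, Iso.hom_inv_id]
    have hb : s₁ ≫ a₂ = 1 := by
      simp only [s₁, a₂, Category.assoc]
      rw [← Category.assoc (D K p₁), D_comp, h12, D_one, MonObj.one_comp, MonObj.comp_one]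
    simp only [φ, MonObj.comp_mul, ← Category.assoc]
    rw [ha, hb, Category.id_comp, MonObj.one_comp, _root_.mul_one]
  have h2 : s₂ ≫ φ = i₂ := by
    have ha : s₂ ≫ a₂ = 𝟙 _ := by
      simp only [s₂, a₂, Category.assoc]
      rw [← Category.assoc (D K p₂), D_comp, h22, D_id, Category.id_comp, Iso.hom_inv_id]
    have hb : s₂ ≫ a₁ = 1 := by
      simp only [s₂, a₁, Category.assoc]
      rw [← Category.assoc (D K p₂), D_comp, h21, D_one, MonObj.one_comp, MonObj.comp_one]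
    simp only [φ, MonObj.comp_mul, ← Category.assoc]
    rw [ha, hb, Category.id_comp, MonObj.one_comp, _root_.one_mul]
  obtain ⟨Q, _, p, i, hQ, hp, hi, hm, -, -, hpi⟩ :=
    ImgTorus.exists_image_torus φ (isTorus_KZ (n₁ + n₂))
  refine ⟨Q, inferInstance, i, s₁ ≫ p, s₂ ≫ p, hQ, hi, hm, inferInstance, inferInstance, ?_, ?_⟩
  · rw [Category.assoc, hpi, h1]
  · rw [Category.assoc, hpi, h2]

/-- **A torus commuting with a maximal torus is contained in it.** -/
theorem exists_factor_of_commute {G T R : Over (Spec (CommRingCat.of K))} [GrpObj G] [GrpObj T]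
    [GrpObj R] (i : T ⟶ G) (h : Red.IsMaximalTorus i) (j : R ⟶ G) [IsMonHom j]
    (hR : Red.IsTorus R)
    (hc : ∀ (t : 𝟙_ (Over (Spec (CommRingCat.of K))) ⟶ T)
      (r : 𝟙_ (Over (Spec (CommRingCat.of K))) ⟶ R), (t ≫ i) * (r ≫ j) = (r ≫ j) * (t ≫ i)) :
    ∃ f : R ⟶ T, f ≫ i = j := by
  obtain ⟨hi, hm, hT, hmax⟩ := (isMaximalTorus_iff_abs i).1 h
  obtain ⟨Q, _, k, f₁, f₂, hQ, hk, hkm, hf₁, hf₂, h1, h2⟩ :=
    exists_torus_of_commute i j hT hR hc
  have h3 := hmax Q k f₁ hQ h1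
  refine ⟨f₂ ≫ inv f₁, ?_⟩
  rw [← h1, Category.assoc, IsIso.inv_hom_id_assoc, h2]

end Groth.Agent.Sga3.H784.Commute
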