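import Groth.Agent.Sga3.H784.FieldExt

/-!
# Maximal tori of algebraic groups (not necessarily affine, smooth or connected)

`K` algebraically closed, `G` a group scheme locally of finite type over `K`.
This file collects the main statements of the package.

* `exists_conjBy`: maximal tori are conjugate;
* `exists_isMaximalTorus_of_torus`, `exists_isMaximalTorus`: existence;
* `topologicalKrullDim_eq`, `isMaximalTorus_of_rank_le`: ranks;
* `exists_image_torus`: images of tori;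
* `exists_factor_of_commute`: a torus commuting with a maximal torus is contained in it;
* `commute_of_central`, `isMaximalTorus_of_over`: tori and central extensions;
* `isMaximalTorus_pullback_iff`: extension of the algebraically closed field;
* `Conj.exists_quot`: the affine quotient of a connected group by its centre.
-/

set_option autoImplicit false

universe u

open CategoryTheory MonoidalCategory CartesianMonoidalCategory MonObj GrpObj AlgebraicGeometry

namespace Groth.Agent.Sga3.H784.NAMain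

variable {K : Type u} [Field K] [IsAlgClosed K]

/-- Conjugacy of maximal tori, `G` any algebraic group over `K` algebraically closed. -/
theorem exists_conjBy {G T₁ T₂ : Over (Spec (CommRingCat.of K))} [GrpObj G] [GrpObj T₁] [GrpObj T₂]
    [LocallyOfFiniteType G.hom] (i₁ : T₁ ⟶ G) (i₂ : T₂ ⟶ G)
    (h₁ : Red.IsMaximalTorus i₁) (h₂ : Red.IsMaximalTorus i₂) :
    ∃ g : 𝟙_ (Over (Spec (CommRingCat.of K))) ⟶ G, SGA3x.ConjBy i₁ i₂ g :=
  Conj.exists_conjBy i₁ i₂ h₁ h₂

/-- Every subtorus is contained in a maximal torus. -/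
theorem exists_isMaximalTorus_of_torus {G R : Over (Spec (CommRingCat.of K))} [GrpObj G] [GrpObj R]
    [LocallyOfFiniteType G.hom] (j : R ⟶ G) [IsMonHom j] [Mono j] (hR : Red.IsTorus R) :
    ∃ (T : Over (Spec (CommRingCat.of K))) (_ : GrpObj T) (i : T ⟶ G) (f : R ⟶ T),
      Red.IsMaximalTorus i ∧ f ≫ i = j :=
  Exist.exists_isMaximalTorus_of_torus j hR

theorem exists_isMaximalTorus (G : Over (Spec (CommRingCat.of K))) [GrpObj G]
    [LocallyOfFiniteType G.hom] :
    ∃ (T : Over (Spec (CommRingCat.of K))) (_ : GrpObj T) (i : T ⟶ G), Red.IsMaximalTorus i :=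
  Exist.exists_isMaximalTorus G

/-- Maximal tori are isomorphic. -/
theorem nonempty_iso {G T₁ T₂ : Over (Spec (CommRingCat.of K))} [GrpObj G] [GrpObj T₁]
    [GrpObj T₂] [LocallyOfFiniteType G.hom] (i₁ : T₁ ⟶ G) (i₂ : T₂ ⟶ G)
    (h₁ : Red.IsMaximalTorus i₁) (h₂ : Red.IsMaximalTorus i₂) :
    ∃ φ : T₁ ≅ T₂, IsMonHom φ.hom := Exist.nonempty_iso i₁ i₂ h₁ h₂

/-- Maximal tori have the same dimension. -/
theorem topologicalKrullDim_eq {G T₁ T₂ : Over (Spec (CommRingCat.of K))} [GrpObj G] [GrpObj T₁]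
    [GrpObj T₂] [LocallyOfFiniteType G.hom] (i₁ : T₁ ⟶ G) (i₂ : T₂ ⟶ G)
    (h₁ : Red.IsMaximalTorus i₁) (h₂ : Red.IsMaximalTorus i₂) :
    topologicalKrullDim ↥T₁.left = topologicalKrullDim ↥T₂.left :=
  Exist.topologicalKrullDim_eq i₁ i₂ h₁ h₂

/-- A subtorus of rank at least the rank of a maximal torus is maximal. -/
theorem isMaximalTorus_of_rank_le {G T R : Over (Spec (CommRingCat.of K))} [GrpObj G] [GrpObj T]
    [GrpObj R] [LocallyOfFiniteType G.hom] (i : T ⟶ G) (h : Red.IsMaximalTorus i)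
    (j : R ⟶ G) [IsMonHom j] [Mono j] {m n : ℕ} (hT : Red.IsSplitTorusWith (Fin n → ℤ) T)
    (hR : Red.IsSplitTorusWith (Fin m → ℤ) R) (hmn : n ≤ m) : Red.IsMaximalTorus j :=
  Exist.isMaximalTorus_of_rank_le i h j hT hR hmn

/-- The image of a homomorphism from a torus is a torus. -/
theorem exists_image_torus {G T : Over (Spec (CommRingCat.of K))} [GrpObj G] [GrpObj T]
    [LocallyOfFiniteType G.hom] (φ : T ⟶ G) [IsMonHom φ] (hT : Red.IsTorus T) :
    ∃ (Q : Over (Spec (CommRingCat.of K))) (_ : GrpObj Q) (p : T ⟶ Q) (i : Q ⟶ G),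
      Red.IsTorus Q ∧ IsMonHom p ∧ IsMonHom i ∧ Mono i ∧ Surjective p.left ∧ Flat p.left ∧
        p ≫ i = φ := ImgTorus.exists_image_torus φ hT

/-- A torus commuting with a maximal torus is contained in it (commutation on `K`-points
suffices). -/
theorem exists_factor_of_commute {G T R : Over (Spec (CommRingCat.of K))} [GrpObj G] [GrpObj T]
    [GrpObj R] [LocallyOfFiniteType G.hom] (i : T ⟶ G) (h : Red.IsMaximalTorus i)
    (j : R ⟶ G) [IsMonHom j] (hR : Red.IsTorus R)
    (hc : ∀ (t : 𝟙_ (Over (Spec (CommRingCat.of K))) ⟶ T)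
      (r : 𝟙_ (Over (Spec (CommRingCat.of K))) ⟶ R), (t ≫ i) * (r ≫ j) = (r ≫ j) * (t ≫ i)) :
    ∃ f : R ⟶ T, f ≫ i = j := Commute.exists_factor_of_commute i h j hR hc

/-- (F1) tori which lie over a commutative subgroup modulo a central subgroup commute. -/
theorem commute_of_central {G Q T₁ T₂ : Over (Spec (CommRingCat.of K))} [GrpObj G] [GrpObj Q]
    [GrpObj T₁] [GrpObj T₂] [LocallyOfFiniteType G.hom] (q : G ⟶ Q) [IsMonHom q]
    (hq : ∀ (z g : 𝟙_ (Over (Spec (CommRingCat.of K))) ⟶ G), z ≫ q = 1 → z * g = g * z)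
    (i₁ : T₁ ⟶ G) [IsMonHom i₁] (i₂ : T₂ ⟶ G) [IsMonHom i₂] (h₁ : Red.IsTorus T₁)
    (h₂ : Red.IsTorus T₂)
    (hc : ∀ (t : 𝟙_ (Over (Spec (CommRingCat.of K))) ⟶ T₁)
      (r : 𝟙_ (Over (Spec (CommRingCat.of K))) ⟶ T₂),
      (t ≫ i₁ ≫ q) * (r ≫ i₂ ≫ q) = (r ≫ i₂ ≫ q) * (t ≫ i₁ ≫ q))
    {X : Over (Spec (CommRingCat.of K))} (t : X ⟶ T₁) (r : X ⟶ T₂) :
    (t ≫ i₁) * (r ≫ i₂) = (r ≫ i₂) * (t ≫ i₁) :=
  Commute.commute_of_central q hq i₁ i₂ h₁ h₂ hc t r

/-- (F3) `q : G ⟶ Q` surjective homomorphism, `b : Tb ⟶ Q` a maximal torus; a subtorus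
`i : T ⟶ G` which contains all subtori of `G` lying over `Tb` is a maximal torus of `G`. -/
theorem isMaximalTorus_of_over {G Q T Tb : Over (Spec (CommRingCat.of K))} [GrpObj G] [GrpObj Q]
    [GrpObj T] [GrpObj Tb] [LocallyOfFiniteType G.hom] [LocallyOfFiniteType Q.hom]
    (q : G ⟶ Q) [IsMonHom q] [Surjective q.left]
    (_hq : ∀ (z g : 𝟙_ (Over (Spec (CommRingCat.of K))) ⟶ G), z ≫ q = 1 → z * g = g * z)
    (b : Tb ⟶ Q) (hb : Red.IsMaximalTorus b) (i : T ⟶ G) [IsMonHom i] [Mono i] (hT : Red.IsTorus T)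
    (_hT' : ∃ f : T ⟶ Tb, f ≫ b = i ≫ q)
    (hmax : ∀ (R : Over (Spec (CommRingCat.of K))) [GrpObj R] (j : R ⟶ G) [IsMonHom j] [Mono j],
      Red.IsTorus R → (∃ f : R ⟶ Tb, f ≫ b = j ≫ q) → ∃ f : R ⟶ T, f ≫ i = j) :
    Red.IsMaximalTorus i := Exist.isMaximalTorus_of_over q b hb i hT hmax

/-- Invariance under extension of the algebraically closed field (both directions). -/
theorem isMaximalTorus_pullback_iff {L : Type u} [Field L] [IsAlgClosed L]
    (σ : Spec (CommRingCat.of L) ⟶ Spec (CommRingCat.of K))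
    {G T : Over (Spec (CommRingCat.of K))} [GrpObj G] [GrpObj T] [LocallyOfFiniteType G.hom]
    (i : T ⟶ G) (hi : IsMonHom i) (hT : Red.IsTorus T) :
    Red.IsMaximalTorus ((Over.pullback σ).map i) ↔ Red.IsMaximalTorus i :=
  FieldExt.isMaximalTorus_pullback_iff σ i hi hT

end Groth.Agent.Sga3.H784.NAMain
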