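import Groth.Agent.Sga3B.RG.BrImg
import Groth.Agent.Books.AffBridge2
import Mathlib.RingTheory.Coalgebra.GroupLike
import Mathlib.RingTheory.Bialgebra.MonoidAlgebra

/-!
# Closed subgroup schemes of diagonalizable groups

A Hopf ideal `I` of the group algebra `K[Γ]` is generated by the elements `m - 1`, `m ∈ Δ`, for the subgroup
`Δ = {m | m - 1 ∈ I}` of `Γ`.
-/

set_option autoImplicit false

universe u

open TensorProduct Coalgebra

namespace Groth.Agent.Sga3.H784.DiagKer

noncomputable section

variable {K : Type u} [Field K] {Γ : Type} [CommGroup Γ]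

/-- The characters which are trivial on the closed subgroup defined by `I`. -/
def triv (I : Ideal (MonoidAlgebra K Γ)) : Subgroup Γ where
  carrier := {m | MonoidAlgebra.single m (1 : K) - 1 ∈ I}
  mul_mem' := by
    intro a b ha hb
    have h1 : MonoidAlgebra.single (a * b) (1 : K) - 1 =
        MonoidAlgebra.single a (1 : K) * (MonoidAlgebra.single b (1 : K) - 1) +
        (MonoidAlgebra.single a (1 : K) - 1) := by
      rw [mul_sub, MonoidAlgebra.single_mul_single, mul_one, mul_one]
      ring
    change MonoidAlgebra.single (a * b) (1 : K) - 1 ∈ I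
    rw [h1]
    exact I.add_mem (I.mul_mem_left _ hb) ha
  one_mem' := by
    change MonoidAlgebra.single (1 : Γ) (1 : K) - 1 ∈ I
    rw [← MonoidAlgebra.one_def, sub_self]
    exact I.zero_mem
  inv_mem' := by
    intro a ha
    have h1 : MonoidAlgebra.single a⁻¹ (1 : K) - 1 =
        - (MonoidAlgebra.single a⁻¹ (1 : K) * (MonoidAlgebra.single a (1 : K) - 1)) := by
      rw [mul_sub, MonoidAlgebra.single_mul_single, mul_one, mul_one, inv_mul_cancel,
        ← MonoidAlgebra.one_def]
      ring
    change MonoidAlgebra.single a⁻¹ (1 : K) - 1 ∈ I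
    rw [h1]
    exact I.neg_mem (I.mul_mem_left _ ha)

lemma mem_triv {I : Ideal (MonoidAlgebra K Γ)} {m : Γ} :
    m ∈ triv I ↔ MonoidAlgebra.single m (1 : K) - 1 ∈ I := Iff.rfl

/-- The ideal generated by the `m - 1`, `m` in the image of `q`, is the image of the augmentation
ideal. -/
lemma map_ker_counit_le {Γ' : Type} [CommGroup Γ'] (q : Γ' →* Γ) (I : Ideal (MonoidAlgebra K Γ))
    (h : ∀ m, q m ∈ triv I) :
    Ideal.map (MonoidAlgebra.mapDomainBialgHom K q : MonoidAlgebra K Γ' →ₐ[K] MonoidAlgebra K Γ)
      (RingHom.ker (Bialgebra.counitAlgHom K (MonoidAlgebra K Γ'))) ≤ I := by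
  rw [Ideal.map_le_iff_le_comap]
  intro b hb
  have key : ∀ b : MonoidAlgebra K Γ',
      MonoidAlgebra.mapDomainBialgHom K q b -
        algebraMap K _ (counit (R := K) b) ∈ I := by
    intro b
    induction b using MonoidAlgebra.induction_linear with
    | zero => simp
    | add x y hx hy =>
      have h1 := I.add_mem hx hy
      rw [map_add, map_add, map_add]
      convert h1 using 1
      ring
    | single m c =>
      have h1 := I.mul_mem_left (algebraMap K _ c) (h m)
      convert h1 using 1
      rw [MonoidAlgebra.mapDomainBialgHom_single, MonoidAlgebra.counit_single, mul_sub, mul_one]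
      congr 1
      rw [MonoidAlgebra.coe_algebraMap, Function.comp_apply, MonoidAlgebra.single_mul_single,
        one_mul]
      simp
  have h1 : counit (R := K) b = 0 := hb
  have h2 := key b
  rw [h1, map_zero, sub_zero] at h2
  exact h2

lemma single_sub_single_mem {Γ' : Type} [CommGroup Γ'] (q : Γ' →* Γ) {m m' : Γ}
    (h : m / m' ∈ q.range) :
    MonoidAlgebra.single m (1 : K) - MonoidAlgebra.single m' (1 : K) ∈
      Ideal.map (MonoidAlgebra.mapDomainBialgHom K q : MonoidAlgebra K Γ' →ₐ[K] MonoidAlgebra K Γ)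
      (RingHom.ker (Bialgebra.counitAlgHom K (MonoidAlgebra K Γ'))) := by
  obtain ⟨x, hx⟩ := h
  have h1 : (MonoidAlgebra.single x (1 : K) - 1 : MonoidAlgebra K Γ') ∈
      RingHom.ker (Bialgebra.counitAlgHom K (MonoidAlgebra K Γ')) := by
    rw [RingHom.mem_ker, map_sub, map_one]
    change counit (R := K) (MonoidAlgebra.single x (1 : K)) - 1 = 0
    rw [MonoidAlgebra.counit_single]
    simp
  have h2 := Ideal.mem_map_of_mem (MonoidAlgebra.mapDomainBialgHom K q :
    MonoidAlgebra K Γ' →ₐ[K] MonoidAlgebra K Γ) h1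
  have h3 := Ideal.mul_mem_left _ (MonoidAlgebra.single m' (1 : K)) h2
  convert h3 using 1
  rw [map_sub, map_one]
  change _ = MonoidAlgebra.single m' (1 : K) *
    (MonoidAlgebra.mapDomainBialgHom K q (MonoidAlgebra.single x (1 : K)) - 1)
  rw [MonoidAlgebra.mapDomainBialgHom_single, hx, mul_sub, MonoidAlgebra.single_mul_single,
    mul_one, mul_one, mul_div_cancel]

/-- **Hopf ideals of group algebras.** -/
theorem eq_map_ker_counit {Γ' : Type} [CommGroup Γ'] (q : Γ' →* Γ) (I : Ideal (MonoidAlgebra K Γ))
    [I.IsHopfIdeal K] (h : triv I = q.range) :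
    I = Ideal.map (MonoidAlgebra.mapDomainBialgHom K q : MonoidAlgebra K Γ' →ₐ[K] MonoidAlgebra K Γ)
      (RingHom.ker (Bialgebra.counitAlgHom K (MonoidAlgebra K Γ'))) := by
  classical
  set J := Ideal.map (MonoidAlgebra.mapDomainBialgHom K q :
    MonoidAlgebra K Γ' →ₐ[K] MonoidAlgebra K Γ)
      (RingHom.ker (Bialgebra.counitAlgHom K (MonoidAlgebra K Γ'))) with hJ
  have hJI : J ≤ I := map_ker_counit_le q I (fun m => by rw [h]; exact ⟨m, rfl⟩)
  refine le_antisymm ?_ hJI
  let Δ := triv I
  let f : Γ →* Γ ⧸ Δ := QuotientGroup.mk' Δ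
  let s : Γ ⧸ Δ → Γ := Quotient.out
  have hs : ∀ d, f (s d) = d := fun d => Quotient.out_eq d
  -- the linear section
  let L : MonoidAlgebra K (Γ ⧸ Δ) → MonoidAlgebra K Γ := MonoidAlgebra.mapDomain s
  have hLadd : ∀ x y, L (x + y) = L x + L y := fun x y => MonoidAlgebra.mapDomain_add _ _ _
  have h1 : ∀ x : MonoidAlgebra K Γ, x - L (MonoidAlgebra.mapDomain f x) ∈ J := by
    intro x
    induction x using MonoidAlgebra.induction_linear with
    | zero =>
      have : L (MonoidAlgebra.mapDomain f 0) = 0 := by
        simp only [L, MonoidAlgebra.mapDomain_zero]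
      rw [this, sub_zero]
      exact J.zero_mem
    | add x y hx hy =>
      rw [MonoidAlgebra.mapDomain_add, hLadd]
      have h2 := J.add_mem hx hy
      convert h2 using 1
      ring
    | single m c =>
      have h2 : L (MonoidAlgebra.mapDomain f (MonoidAlgebra.single m c)) =
          MonoidAlgebra.single (s (f m)) c := by
        simp only [L, MonoidAlgebra.mapDomain_single]
      rw [h2]
      have h3 : m / s (f m) ∈ q.range := by
        rw [← h]
        have h4 : f (s (f m)) = f m := hs _
        exact QuotientGroup.eq_iff_div_mem.1 h4.symm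
      have h5 := J.mul_mem_left (algebraMap K _ c) (single_sub_single_mem (K := K) q h3)
      convert h5 using 1
      rw [mul_sub]
      congr 1 <;>
      · rw [MonoidAlgebra.coe_algebraMap, Function.comp_apply, MonoidAlgebra.single_mul_single,
          one_mul]
        simp
  intro x hx
  -- group-like elements of the quotient
  let π : MonoidAlgebra K Γ →ₐc[K] (MonoidAlgebra K Γ ⧸ I) := Bialgebra.Quotient.mkBialgHom (R := K) I
  have hπ : ∀ a, π a = Ideal.Quotient.mk I a := fun a => rfl
  let g : Γ ⧸ Δ → GroupLike K (MonoidAlgebra K Γ ⧸ I) := fun d =>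
    ⟨π (MonoidAlgebra.single (s d) (1 : K)), (MonoidAlgebra.isGroupLikeElem_single_one (R := K) (A := K) (s d)).map π⟩
  have hg : Function.Injective g := by
    intro d d' hd
    have h2 : π (MonoidAlgebra.single (s d) (1 : K)) = π (MonoidAlgebra.single (s d') (1 : K)) :=
      congrArg GroupLike.val hd
    rw [hπ, hπ, Ideal.Quotient.eq] at h2
    have h3 : s d / s d' ∈ Δ := by
      rw [mem_triv]
      have h4 := I.mul_mem_left (MonoidAlgebra.single (s d')⁻¹ (1 : K)) h2
      convert h4 using 1
      rw [mul_sub, MonoidAlgebra.single_mul_single, MonoidAlgebra.single_mul_single,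
        inv_mul_cancel, mul_one, ← MonoidAlgebra.one_def, mul_comm, div_eq_mul_inv]
    have h5 : f (s d) = f (s d') := QuotientGroup.eq_iff_div_mem.2 h3
    rwa [hs, hs] at h5
  have hli : LinearIndependent K (fun d => π (MonoidAlgebra.single (s d) (1 : K))) :=
    (linearIndep_groupLikeVal (R := K) (A := MonoidAlgebra K Γ ⧸ I)).comp g hg
  let y := MonoidAlgebra.mapDomain f x
  have hy : L y ∈ I := by
    have h2 := I.sub_mem hx (hJI (h1 x))
    rwa [sub_sub_cancel] at h2
  have hy2 : π (L y) = 0 := Ideal.Quotient.eq_zero_iff_mem.2 hy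
  have hLs : ∀ z : MonoidAlgebra K (Γ ⧸ Δ), π (L z) =
      Finsupp.linearCombination K (fun d => π (MonoidAlgebra.single (s d) (1 : K))) z.coeff := by
    intro z
    induction z using MonoidAlgebra.induction_linear with
    | zero =>
      have : L 0 = 0 := by simp only [L, MonoidAlgebra.mapDomain_zero]
      rw [this, map_zero]
      simp
    | add x y hx hy =>
      rw [hLadd, map_add, hx, hy]
      simp
    | single d c =>
      have h2 : L (MonoidAlgebra.single d c) = MonoidAlgebra.single (s d) c := by
        simp only [L, MonoidAlgebra.mapDomain_single]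
      rw [h2, MonoidAlgebra.coeff_single, Finsupp.linearCombination_single]
      rw [← map_smul]
      congr 1
      rw [MonoidAlgebra.smul_single, smul_eq_mul, mul_one]
  rw [hLs] at hy2
  have hy3 : y.coeff = 0 := (linearIndependent_iff.1 hli) _ hy2
  have hy4 : y = 0 := MonoidAlgebra.coeff_injective (by rw [hy3]; rfl)
  have h6 := h1 x
  have h7 : L (MonoidAlgebra.mapDomain f x) = 0 := by
    change L y = 0
    rw [hy4]
    simp only [L, MonoidAlgebra.mapDomain_zero]
  rwa [h7, sub_zero] at h6

end

end Groth.Agent.Sga3.H784.DiagKer
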