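import Groth.Agent.Sga3.H784.Conj
import Groth.Agent.S3036
import Mathlib.RingTheory.KrullDimension.NonZeroDivisors

/-!
# Existence of maximal tori of algebraic groups, ranks

`K` algebraically closed, `G` an algebraic group over `K`.

* `rank_le_of_mono`: monomorphisms of split tori;
* `exists_rank_bound`: the rank of subtori is bounded;
* `exists_isMaximalTorus_of_torus`, `exists_isMaximalTorus`;
* `topologicalKrullDim_eq`, `isMaximalTorus_of_rank_le`.
-/

set_option autoImplicit false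

universe u

open CategoryTheory MonoidalCategory CartesianMonoidalCategory MonObj GrpObj AlgebraicGeometry
open Groth.Agent.Books.AffBridge Groth.Agent.Books.AffBridge2

namespace Groth.Agent.Sga3.H784.Exist

open Sga3B.RG Sga3B.RG.BrPts Sga3B.RG.BrTorus Sga3B.RG.BrImg Sga3B.RG.BrDiag Sga3B.RG.BrMax
open Books.AlgPts Books.AlgPtsSmooth Groth.Agent.Sga3.H784.Commute Neutral Conj

section split

variable {K : Type u} [Field K]

lemma surjective_of_mapDomain_surjective {Γ Γ' : Type} [CommGroup Γ] [CommGroup Γ'] (q : Γ' →* Γ)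
    (h : Function.Surjective (MonoidAlgebra.mapDomainBialgHom K q)) : Function.Surjective q := by
  classical
  intro m
  obtain ⟨x, hx⟩ := h (MonoidAlgebra.single m 1)
  by_contra hm
  have key : ∀ x : MonoidAlgebra K Γ', (MonoidAlgebra.mapDomainBialgHom K q x).coeff m = 0 := by
    intro x
    induction x using MonoidAlgebra.induction_linear with
    | zero => rw [map_zero]; rfl
    | add f g hf hg => rw [map_add, MonoidAlgebra.coeff_add, Finsupp.add_apply, hf, hg, add_zero]
    | single a c =>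
      rw [MonoidAlgebra.mapDomainBialgHom_single, MonoidAlgebra.coeff_single,
        Finsupp.single_apply_eq_zero]
      rintro rfl
      exact absurd ⟨a, rfl⟩ hm
  have h1 := key x
  rw [hx, MonoidAlgebra.coeff_single, Finsupp.single_eq_same] at h1
  exact one_ne_zero h1

/-- A monomorphism between split tori. -/
theorem rank_le_of_mono {n m : ℕ} (f : SpecOver K (KZ K n) ⟶ SpecOver K (KZ K m)) [IsMonHom f]
    [Mono f] : n ≤ m ∧ (n = m → IsIso f) := by
  obtain ⟨φ, hφ⟩ := exists_bialgHom_of_isMonHom K f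
  have hm : Mono (specMap K (φ : KZ K m →ₐ[K] KZ K n)) := by rw [hφ]; infer_instance
  have hs := surjective_of_mono φ hm
  let ψ := MonoidAlgebra.mapDomainOfBialgHom φ
  have hψ : MonoidAlgebra.mapDomainBialgHom K ψ = φ :=
    MonoidAlgebra.mapDomainBialgHom_mapDomainOfBialgHom φ
  have hψs : Function.Surjective ψ := by
    apply surjective_of_mapDomain_surjective (K := K)
    rw [hψ]
    exact hs
  let ψ' : (Fin m → ℤ) →ₗ[ℤ] (Fin n → ℤ) := (AddMonoidHom.toMultiplicative.symm ψ).toIntLinearMap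
  have hψ's : Function.Surjective ψ' := hψs
  have h1 := LinearMap.finrank_le_finrank_of_surjective hψ's
  rw [Module.finrank_fin_fun, Module.finrank_fin_fun] at h1
  refine ⟨h1, ?_⟩
  rintro rfl
  have hi : Function.Injective ψ' := OrzechProperty.injective_of_surjective_endomorphism ψ' hψ's
  have hψi : Function.Injective ψ := hi
  have hφi : Function.Injective φ := by
    rw [← hψ]
    exact mapDomain_injective ψ hψi
  rw [← hφ]
  let e : KZ K n ≃ₐ[K] KZ K n := AlgEquiv.ofBijective (φ : KZ K n →ₐ[K] KZ K n) ⟨hφi, hs⟩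
  refine ⟨specMap K (e.symm : KZ K n →ₐ[K] KZ K n), ?_, ?_⟩
  · rw [← specMap_comp, ← specMap_id]
    congr 1
    exact AlgHom.ext fun a => e.apply_symm_apply a
  · rw [← specMap_comp, ← specMap_id]
    congr 1
    exact AlgHom.ext fun a => e.symm_apply_apply a

lemma le_ringKrullDim_KZ (n : ℕ) : (n : WithBot ℕ∞) ≤ ringKrullDim (KZ K n) := by
  induction n with
  | zero =>
    exact ringKrullDim_nonneg_of_nontrivial
  | succ n ih =>
    let p : (Fin (n + 1) → ℤ) →+ (Fin n → ℤ) :=
      { toFun := fun f i => f i.castSucc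
        map_zero' := rfl
        map_add' := fun _ _ => rfl }
    let q : Multiplicative (Fin (n + 1) → ℤ) →* Multiplicative (Fin n → ℤ) :=
      AddMonoidHom.toMultiplicative p
    have hq : Function.Surjective q := by
      intro f
      refine ⟨Multiplicative.ofAdd (Fin.snoc (α := fun _ => ℤ) (Multiplicative.toAdd f) 0), ?_⟩
      change Multiplicative.ofAdd (p _) = f
      have : p (Fin.snoc (α := fun _ => ℤ) (Multiplicative.toAdd f) 0) = Multiplicative.toAdd f := by
        funext i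
        simp [p]
      rw [toAdd_ofAdd, this]
      rfl
    let φ := MonoidAlgebra.mapDomainBialgHom K q
    have hφ : Function.Surjective φ := by
      intro x
      induction x using MonoidAlgebra.induction_linear with
      | zero => exact ⟨0, map_zero _⟩
      | add f g hf hg =>
        obtain ⟨a, rfl⟩ := hf
        obtain ⟨b, rfl⟩ := hg
        exact ⟨a + b, map_add _ _ _⟩
      | single m c =>
        obtain ⟨a, rfl⟩ := hq m
        exact ⟨MonoidAlgebra.single a c, MonoidAlgebra.mapDomainBialgHom_single q a c⟩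
    let a : Multiplicative (Fin (n + 1) → ℤ) := Multiplicative.ofAdd (Pi.single (Fin.last n) 1)
    let r : KZ K (n + 1) := MonoidAlgebra.single a 1 - 1
    have hr0 : r ≠ 0 := by
      intro h
      rw [sub_eq_zero, MonoidAlgebra.one_def] at h
      have h1 := MonoidAlgebra.single_left_injective (one_ne_zero (α := K)) h
      have h2 : (Pi.single (Fin.last n) 1 : Fin (n + 1) → ℤ) = 0 := h1
      have h3 := congrFun h2 (Fin.last n)
      simp at h3
    have hr1 : (φ : KZ K (n + 1) →+* KZ K n) r = 0 := by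
      change φ (MonoidAlgebra.single a 1 - 1) = 0
      rw [map_sub, map_one, sub_eq_zero]
      change MonoidAlgebra.mapDomainBialgHom K q _ = 1
      rw [MonoidAlgebra.mapDomainBialgHom_single, MonoidAlgebra.one_def]
      congr 1
      change Multiplicative.ofAdd (p (Pi.single (Fin.last n) 1)) = 1
      have : p (Pi.single (Fin.last n) 1) = 0 := by
        funext i
        simp [p, (Fin.castSucc_lt_last i).ne]
      rw [this]
      rfl
    have h1 := ringKrullDim_succ_le_of_surjective (φ : KZ K (n + 1) →+* KZ K n) hφ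
      (mem_nonZeroDivisors_of_ne_zero hr0) hr1
    refine le_trans ?_ h1
    push_cast
    gcongr

end split

section bound

variable {K : Type u} [Field K]

/-- The rank of subtori is bounded by the dimension. -/
theorem exists_rank_bound (G : Over (Spec (CommRingCat.of K))) [GrpObj G]
    [LocallyOfFiniteType G.hom] :
    ∃ d : ℕ, topologicalKrullDim G.left = d ∧ ∀ (n : ℕ) (j : SpecOver K (KZ K n) ⟶ G) [IsMonHom j]
      [Mono j], n ≤ d := by
  obtain ⟨d, hd, -⟩ := Fdesc.GrpDimHom.rtd_eq G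
  refine ⟨d, hd, fun n j _ _ => ?_⟩
  have hsep := Groth.Agent.Localalg.GrpSchComp2.isSeparated_hom G
  have hlft : LocallyOfFiniteType (SpecOver K (KZ K n)).hom := lft_specOver _
  have hqc' : QuasiCompact (j.left ≫ G.hom) := by
    rw [Over.w]
    infer_instance
  have hqc : QuasiCompact j.left := QuasiCompact.of_comp j.left G.hom
  have hcl : IsClosedImmersion j.left := S3036.result K _ G j
  have h1 := j.left.isClosedEmbedding.isInducing.topologicalKrullDim_le
  have h2 : topologicalKrullDim (SpecOver K (KZ K n)).left = ringKrullDim (KZ K n) :=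
    PrimeSpectrum.topologicalKrullDim_eq_ringKrullDim (R := KZ K n)
  rw [hd, h2] at h1
  have h3 := (le_ringKrullDim_KZ (K := K) n).trans h1
  exact_mod_cast h3

end bound

section main

variable {K : Type u} [Field K] [IsAlgClosed K]

omit [IsAlgClosed K] in
lemma isIso_of_rank {T T' : Over (Spec (CommRingCat.of K))} [GrpObj T] [GrpObj T'] {n : ℕ}
    (e : T ≅ SpecOver K (KZ K n)) [IsMonHom e.hom] (e' : T' ≅ SpecOver K (KZ K n)) [IsMonHom e'.hom]
    (f : T ⟶ T') [IsMonHom f] [Mono f] : IsIso f := by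
  have hei : IsMonHom e.inv := inferInstance
  have h1 : IsIso (e.inv ≫ f ≫ e'.hom) := (rank_le_of_mono (e.inv ≫ f ≫ e'.hom)).2 rfl
  have h2 : IsIso (f ≫ e'.hom) := IsIso.of_isIso_comp_left e.inv _
  exact IsIso.of_isIso_comp_right f e'.hom

omit [IsAlgClosed K] in
lemma rank_le {T T' : Over (Spec (CommRingCat.of K))} [GrpObj T] [GrpObj T'] {n m : ℕ}
    (e : T ≅ SpecOver K (KZ K n)) [IsMonHom e.hom] (e' : T' ≅ SpecOver K (KZ K m)) [IsMonHom e'.hom]
    (f : T ⟶ T') [IsMonHom f] [Mono f] : n ≤ m := by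
  have hei : IsMonHom e.inv := inferInstance
  exact (rank_le_of_mono (e.inv ≫ f ≫ e'.hom)).1

/-- Every subtorus is contained in a maximal torus. -/
theorem exists_isMaximalTorus_of_torus {G R : Over (Spec (CommRingCat.of K))} [GrpObj G] [GrpObj R]
    [LocallyOfFiniteType G.hom] (j : R ⟶ G) [IsMonHom j] [Mono j] (hR : Red.IsTorus R) :
    ∃ (T : Over (Spec (CommRingCat.of K))) (_ : GrpObj T) (i : T ⟶ G) (f : R ⟶ T),
      Red.IsMaximalTorus i ∧ f ≫ i = j := by
  obtain ⟨d, -, hd⟩ := exists_rank_bound G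
  obtain ⟨n, e, he⟩ := isTorus_iff.1 hR
  have hei : IsMonHom e.inv := inferInstance
  let P : Set ℕ := {m | ∃ (i : SpecOver K (KZ K m) ⟶ G) (f : R ⟶ SpecOver K (KZ K m)),
    IsMonHom i ∧ Mono i ∧ f ≫ i = j}
  have hfin : P.Finite := (Set.finite_le_nat d).subset (by
    rintro m ⟨i, -, h1, h2, -⟩
    exact hd m i)
  have hne : P.Nonempty := ⟨n, e.inv ≫ j, e.hom, inferInstance, inferInstance, by simp⟩
  obtain ⟨m, ⟨i, f, h1, h2, h3⟩, hm⟩ := hfin.exists_maximal hne
  refine ⟨SpecOver K (KZ K m), inferInstance, i, f, ?_, h3⟩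
  rw [isMaximalTorus_iff_abs]
  refine ⟨h1, h2, isTorus_KZ m, fun T' _ j' _ _ g hT' hg => ?_⟩
  obtain ⟨m', e', he'⟩ := isTorus_iff.1 hT'
  have hei' : IsMonHom e'.inv := inferInstance
  have hgm : Mono g := by
    have : Mono (g ≫ j') := by rw [hg]; exact h2
    exact mono_of_mono g j'
  have hgh : IsMonHom g := by
    have : IsMonHom (g ≫ j') := by rw [hg]; exact h1
    exact Sga3C.SubGrp.isMonHom_of_comp_mono g j'
  have hid : IsMonHom (Iso.refl (SpecOver K (KZ K m))).hom :=
    inferInstanceAs (IsMonHom (𝟙 (SpecOver K (KZ K m))))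
  have hle : m ≤ m' := rank_le (Iso.refl _) e' g
  have hP : m' ∈ P := ⟨e'.inv ≫ j', f ≫ g ≫ e'.hom, inferInstance, inferInstance, by
    simp only [Category.assoc, Iso.hom_inv_id_assoc]
    rw [hg, h3]⟩
  have hle' : m' ≤ m := hm hP hle
  obtain rfl : m = m' := le_antisymm hle hle'
  exact isIso_of_rank (Iso.refl _) e' g

omit [IsAlgClosed K] in
lemma isMonHom_one {S : Scheme.{u}} (T G : Over S) [GrpObj T] [GrpObj G] :
    IsMonHom (1 : T ⟶ G) := by
  apply Commute.isMonHom_of_pts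
  intro X x y
  rw [MonObj.comp_one, MonObj.comp_one, MonObj.comp_one, _root_.mul_one]

/-- Maximal tori exist. -/
theorem exists_isMaximalTorus (G : Over (Spec (CommRingCat.of K))) [GrpObj G]
    [LocallyOfFiniteType G.hom] :
    ∃ (T : Over (Spec (CommRingCat.of K))) (_ : GrpObj T) (i : T ⟶ G), Red.IsMaximalTorus i := by
  have := isMonHom_one (SpecOver K (KZ K 0)) G
  obtain ⟨Q, _, p, i, hQ, hp, hi, hm, -, -, -⟩ :=
    ImgTorus.exists_image_torus (1 : SpecOver K (KZ K 0) ⟶ G) (isTorus_KZ 0)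
  obtain ⟨T, _, i', f, hT, -⟩ := exists_isMaximalTorus_of_torus i hQ
  exact ⟨T, inferInstance, i', hT⟩

/-- Maximal tori are isomorphic, as schemes. -/
theorem nonempty_iso {G T₁ T₂ : Over (Spec (CommRingCat.of K))} [GrpObj G] [GrpObj T₁]
    [GrpObj T₂] [LocallyOfFiniteType G.hom] (i₁ : T₁ ⟶ G) (i₂ : T₂ ⟶ G)
    (h₁ : Red.IsMaximalTorus i₁) (h₂ : Red.IsMaximalTorus i₂) :
    ∃ φ : T₁ ≅ T₂, IsMonHom φ.hom := by
  obtain ⟨g, φ, hφ⟩ := exists_conjBy i₁ i₂ h₁ h₂
  refine ⟨φ, ?_⟩
  have hm₁ := h₁.1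
  have hm₂ := h₂.1
  have hmo₂ := h₂.2.1
  have h : IsMonHom (φ.hom ≫ i₂) := by
    rw [← hφ, ← comp_conjIso_hom]
    infer_instance
  exact Sga3C.SubGrp.isMonHom_of_comp_mono φ.hom i₂

/-- Maximal tori have the same dimension. -/
theorem topologicalKrullDim_eq {G T₁ T₂ : Over (Spec (CommRingCat.of K))} [GrpObj G] [GrpObj T₁]
    [GrpObj T₂] [LocallyOfFiniteType G.hom] (i₁ : T₁ ⟶ G) (i₂ : T₂ ⟶ G)
    (h₁ : Red.IsMaximalTorus i₁) (h₂ : Red.IsMaximalTorus i₂) :
    topologicalKrullDim ↥T₁.left = topologicalKrullDim ↥T₂.left := by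
  obtain ⟨φ, -⟩ := nonempty_iso i₁ i₂ h₁ h₂
  have : IsIso φ.hom.left := inferInstanceAs (IsIso ((Over.forget _).map φ.hom))
  exact IsHomeomorph.topologicalKrullDim_eq _ φ.hom.left.homeomorph.isHomeomorph

/-- A subtorus of rank at least the rank of a maximal torus is maximal. -/
theorem isMaximalTorus_of_rank_le {G T R : Over (Spec (CommRingCat.of K))} [GrpObj G] [GrpObj T]
    [GrpObj R] [LocallyOfFiniteType G.hom] (i : T ⟶ G) (h : Red.IsMaximalTorus i)
    (j : R ⟶ G) [IsMonHom j] [Mono j] {m n : ℕ} (hT : Red.IsSplitTorusWith (Fin n → ℤ) T)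
    (hR : Red.IsSplitTorusWith (Fin m → ℤ) R) (hmn : n ≤ m) : Red.IsMaximalTorus j := by
  obtain ⟨e, he⟩ : ∃ e : T ≅ SpecOver K (KZ K n), IsMonHom e.hom := isSplitTorusWith_iff.1 hT
  obtain ⟨e', he'⟩ : ∃ e : R ≅ SpecOver K (KZ K m), IsMonHom e.hom := isSplitTorusWith_iff.1 hR
  rw [isMaximalTorus_iff_abs]
  refine ⟨inferInstance, inferInstance, isTorus_of_isSplitTorusWith hR,
    fun T' _ j' _ _ f hT' hf => ?_⟩
  obtain ⟨k, e₂, he₂⟩ := isTorus_iff.1 hT'
  obtain ⟨T₁, _, i₁, g, h₁, hg⟩ := exists_isMaximalTorus_of_torus j' hT'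
  obtain ⟨φ, hφ⟩ := nonempty_iso i₁ i h₁ h
  have hm₁ := h₁.1
  have hmo₁ := h₁.2.1
  have he₁ : IsMonHom (φ ≪≫ e).hom := inferInstanceAs (IsMonHom (φ.hom ≫ e.hom))
  have hfm : Mono f := by
    have : Mono (f ≫ j') := by rw [hf]; infer_instance
    exact mono_of_mono f j'
  have hfh : IsMonHom f := by
    have : IsMonHom (f ≫ j') := by rw [hf]; infer_instance
    exact Sga3C.SubGrp.isMonHom_of_comp_mono f j'
  have hgm : Mono g := by
    have : Mono (g ≫ i₁) := by rw [hg]; infer_instance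
    exact mono_of_mono g i₁
  have hgh : IsMonHom g := by
    have : IsMonHom (g ≫ i₁) := by rw [hg]; infer_instance
    exact Sga3C.SubGrp.isMonHom_of_comp_mono g i₁
  have h1 : m ≤ k := rank_le e' e₂ f
  have h2 : k ≤ n := rank_le e₂ (φ ≪≫ e) g
  obtain rfl : m = k := le_antisymm h1 (h2.trans hmn)
  exact isIso_of_rank e' e₂ f

/-- The image of a torus under a homomorphism is, up to conjugacy, in a given maximal torus. -/
theorem exists_conj_factor {Q Tb T : Over (Spec (CommRingCat.of K))} [GrpObj Q] [GrpObj Tb]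
    [GrpObj T] [LocallyOfFiniteType Q.hom] (b : Tb ⟶ Q) (hb : Red.IsMaximalTorus b) (j : T ⟶ Q)
    [IsMonHom j] (hT : Red.IsTorus T) :
    ∃ (g : 𝟙_ (Over (Spec (CommRingCat.of K))) ⟶ Q) (f : T ⟶ Tb),
      f ≫ b = j ≫ (conjIso g).hom := by
  obtain ⟨R, _, p, i, hR, hp, hi, hm, -, -, hpi⟩ := ImgTorus.exists_image_torus j hT
  obtain ⟨T₁, _, i₁, f₁, h₁, hf₁⟩ := exists_isMaximalTorus_of_torus i hR
  obtain ⟨g, φ, hφ⟩ := exists_conjBy i₁ b h₁ hb
  refine ⟨g, p ≫ f₁ ≫ φ.hom, ?_⟩
  rw [Category.assoc, Category.assoc, ← hφ, ← comp_conjIso_hom, ← Category.assoc f₁, hf₁,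
    ← Category.assoc, hpi]

/-- (F3) `q : G ⟶ Q` a surjective homomorphism, `b : Tb ⟶ Q` a
maximal torus; a subtorus `i : T ⟶ G` lying over `Tb` which contains all subtori of `G` lying over
`Tb` is a maximal torus of `G`. -/
theorem isMaximalTorus_of_over {G Q T Tb : Over (Spec (CommRingCat.of K))} [GrpObj G] [GrpObj Q]
    [GrpObj T] [GrpObj Tb] [LocallyOfFiniteType G.hom] [LocallyOfFiniteType Q.hom]
    (q : G ⟶ Q) [IsMonHom q] [Surjective q.left]
    (b : Tb ⟶ Q) (hb : Red.IsMaximalTorus b) (i : T ⟶ G) [IsMonHom i] [Mono i] (hT : Red.IsTorus T)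
    (hmax : ∀ (R : Over (Spec (CommRingCat.of K))) [GrpObj R] (j : R ⟶ G) [IsMonHom j] [Mono j],
      Red.IsTorus R → (∃ f : R ⟶ Tb, f ≫ b = j ≫ q) → ∃ f : R ⟶ T, f ≫ i = j) :
    Red.IsMaximalTorus i := by
  rw [isMaximalTorus_iff_abs]
  refine ⟨inferInstance, inferInstance, hT, fun T' _ j _ _ f hT' hf => ?_⟩
  obtain ⟨g, f₁, hf₁⟩ := exists_conj_factor b hb (j ≫ q) hT'
  obtain ⟨γ, hγ⟩ := exists_comp_eq_of_pt_mem_range q g
    (by rw [Set.range_eq_univ.2 q.left.surjective]; trivial)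
  obtain ⟨f₂, hf₂⟩ := hmax T' (j ≫ (conjIso γ).hom) hT'
    ⟨f₁, by rw [hf₁, conjIso_hom_comp, hγ]⟩
  obtain ⟨n, e, he⟩ := isTorus_iff.1 hT
  obtain ⟨m, e', he'⟩ := isTorus_iff.1 hT'
  have hfm : Mono f := by
    have : Mono (f ≫ j) := by rw [hf]; infer_instance
    exact mono_of_mono f j
  have hfh : IsMonHom f := by
    have : IsMonHom (f ≫ j) := by rw [hf]; infer_instance
    exact Sga3C.SubGrp.isMonHom_of_comp_mono f j
  have hfm₂ : Mono f₂ := by
    have : Mono (f₂ ≫ i) := by rw [hf₂]; infer_instance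
    exact mono_of_mono f₂ i
  have hfh₂ : IsMonHom f₂ := by
    have : IsMonHom (f₂ ≫ i) := by rw [hf₂]; infer_instance
    exact Sga3C.SubGrp.isMonHom_of_comp_mono f₂ i
  obtain rfl : n = m := le_antisymm (rank_le e e' f) (rank_le e' e f₂)
  exact isIso_of_rank e e' f

end main

end Groth.Agent.Sga3.H784.Exist
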