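import Groth.Agent.Sga3.H784.Spread
import Mathlib.RingTheory.RootsOfUnity.EnoughRootsOfUnity
import Mathlib.RingTheory.RootsOfUnity.AlgebraicallyClosed

/-!
# Maximal tori and extensions of algebraically closed fields

* `card_torsion`: the number of `ℓ`-torsion points of a split torus;
* `exists_mono_of_bc`: `G_L` has a subtorus of rank `m` iff `G` has;
* `isMaximalTorus_pullback_iff`: `i` is a maximal torus iff its base change is one.
-/

set_option autoImplicit false

universe u

open CategoryTheory MonoidalCategory CartesianMonoidalCategory MonObj GrpObj AlgebraicGeometry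
open Groth.Agent.Books.AffBridge Groth.Agent.Books.AffBridge2

namespace Groth.Agent.Sga3.H784.FieldExt

open Sga3B.RG Sga3B.RG.BrPts Sga3B.RG.BrTorus Sga3B.RG.BrImg Sga3B.RG.BrDiag Sga3B.RG.BrMax
open Books.AlgPts Books.AlgPtsSmooth Books.AlgPtsGen Groth.Agent.Sga3.H784.Commute Neutral Conj Exist
open Spread

section torsion

variable {K : Type u} [Field K]

/-- Evaluation of characters of `ℤⁿ` at the basis. -/
noncomputable def evEquiv (n : ℕ) : (Multiplicative (Fin n → ℤ) →* Kˣ) ≃* (Fin n → Kˣ) where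
  toFun t i := t (Multiplicative.ofAdd (Pi.single i 1))
  invFun a :=
    { toFun := fun f => ∏ i, a i ^ (Multiplicative.toAdd f i)
      map_one' := by simp
      map_mul' := fun f g => by
        rw [← Finset.prod_mul_distrib]
        refine Finset.prod_congr rfl fun i _ => ?_
        rw [toAdd_mul, Pi.add_apply, zpow_add] }
  left_inv t := by
    refine MonoidHom.ext fun f => ?_
    change ∏ i, t (Multiplicative.ofAdd (Pi.single i 1)) ^ (Multiplicative.toAdd f i) = t f
    have h1 : f = ∏ i, (Multiplicative.ofAdd (Pi.single i 1 : Fin n → ℤ)) ^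
        (Multiplicative.toAdd f i) := by
      apply Multiplicative.toAdd.injective
      rw [toAdd_prod]
      simp only [toAdd_zpow, toAdd_ofAdd]
      funext j
      simp [Finset.sum_apply, Pi.single_apply]
    conv_rhs => rw [h1]
    rw [map_prod]
    simp only [map_zpow]
  right_inv a := by
    funext i
    change ∏ j, a j ^ ((Pi.single i 1 : Fin n → ℤ) j) = a i
    rw [Finset.prod_eq_single i]
    · simp
    · intro j _ hj
      simp [hj]
    · simp
  map_mul' s t := rfl

/-- The rational points of a split torus. -/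
noncomputable def ptsEquiv (n : ℕ) :
    (𝟙_ (Over (Spec (CommRingCat.of K))) ⟶ SpecOver K (KZ K n)) ≃* (Fin n → Kˣ) :=
  (ptEquiv K (KZ K n)).symm.trans ((torPt _).symm.trans (evEquiv n))

/-- The torsion points of a split torus. -/
noncomputable def torsEquiv (n ℓ : ℕ) :
    {x : 𝟙_ (Over (Spec (CommRingCat.of K))) ⟶ SpecOver K (KZ K n) // x ^ ℓ = 1} ≃
      (Fin n → {u : Kˣ // u ^ ℓ = 1}) :=
  (Equiv.subtypeEquiv (q := fun y : Fin n → Kˣ => ∀ i, y i ^ ℓ = 1) (ptsEquiv n).toEquiv
    (fun x => by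
      change x ^ ℓ = 1 ↔ ∀ i, (ptsEquiv n x) i ^ ℓ = 1
      rw [← (ptsEquiv n).map_eq_one_iff, map_pow, funext_iff]
      rfl)).trans (Equiv.subtypePiEquivPi (p := fun (_ : Fin n) (u : Kˣ) => u ^ ℓ = 1))

lemma card_torsion [IsAlgClosed K] (n : ℕ) {ℓ : ℕ} (hℓ : (ℓ : K) ≠ 0) :
    Nat.card {x : 𝟙_ (Over (Spec (CommRingCat.of K))) ⟶ SpecOver K (KZ K n) // x ^ ℓ = 1} =
      ℓ ^ n := by
  have : NeZero (ℓ : K) := ⟨hℓ⟩
  have hne : NeZero ℓ := NeZero.of_neZero_natCast K
  have h1 : Nat.card (rootsOfUnity ℓ K) = ℓ := HasEnoughRootsOfUnity.natCard_rootsOfUnity K ℓ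
  have h2 : Nat.card {u : Kˣ // u ^ ℓ = 1} = ℓ := h1
  rw [Nat.card_congr (torsEquiv n ℓ), Nat.card_fun, h2, Nat.card_eq_fintype_card,
    Fintype.card_fin]

lemma exists_prime (K : Type u) [Field K] : ∃ ℓ : ℕ, 2 ≤ ℓ ∧ (ℓ : K) ≠ 0 := by
  by_cases h : ((2 : ℕ) : K) = 0
  · refine ⟨3, by norm_num, fun h3 => ?_⟩
    have : (1 : K) = 0 := by
      calc (1 : K) = ((3 : ℕ) : K) - ((2 : ℕ) : K) := by push_cast; ring
        _ = 0 := by rw [h3, h, sub_zero]
    exact one_ne_zero this
  · exact ⟨2, le_rfl, h⟩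

/-- A homomorphism from a split torus injective on `ℓ`-torsion does not lower the rank. -/
theorem rank_le_of_injective_torsion [IsAlgClosed K] {m r ℓ : ℕ} (h2 : 2 ≤ ℓ) (hℓ : (ℓ : K) ≠ 0)
    (p : SpecOver K (KZ K m) ⟶ SpecOver K (KZ K r)) [hpi : IsMonHom p]
    (hp : ∀ t : 𝟙_ (Over (Spec (CommRingCat.of K))) ⟶ SpecOver K (KZ K m), t ^ ℓ = 1 →
      t ≫ p = 1 → t = 1) : m ≤ r := by
  let P := @ptHom _ _ _ _ _ _ _ (𝟙_ (Over (Spec (CommRingCat.of K)))) p hpi
  let q : {x : 𝟙_ (Over (Spec (CommRingCat.of K))) ⟶ SpecOver K (KZ K m) // x ^ ℓ = 1} →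
      {x : 𝟙_ (Over (Spec (CommRingCat.of K))) ⟶ SpecOver K (KZ K r) // x ^ ℓ = 1} :=
    fun t => ⟨t.1 ≫ p, by
      have := map_pow P t.1 ℓ
      rw [t.2, map_one] at this
      exact this.symm⟩
  have hq : Function.Injective q := by
    intro s t h
    have h1 : s.1 ≫ p = t.1 ≫ p := congrArg Subtype.val h
    have h3 : s.1 * t.1⁻¹ = 1 := by
      apply hp
      · have hcomm : Commute s.1 t.1⁻¹ := by
          apply (ptsEquiv (K := K) m).injective
          rw [map_mul, map_mul, mul_comm]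
        rw [hcomm.mul_pow, s.2, inv_pow, t.2, inv_one, _root_.mul_one]
      · change P (s.1 * t.1⁻¹) = 1
        rw [map_mul, map_inv, mul_inv_eq_one]
        exact h1
    exact Subtype.ext (mul_inv_eq_one.1 h3)
  have hc1 := card_torsion (K := K) m hℓ
  have hc2 := card_torsion (K := K) r hℓ
  have hfin : Finite {x : 𝟙_ (Over (Spec (CommRingCat.of K))) ⟶ SpecOver K (KZ K r) //
      x ^ ℓ = 1} := by
    apply Nat.finite_of_card_ne_zero
    rw [hc2]
    positivity
  have hle := Nat.card_le_card_of_injective q hq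
  rw [hc1, hc2] at hle
  exact (Nat.pow_le_pow_iff_right (by omega)).1 hle

end torsion

section main

variable {K L : Type u} [Field K] [IsAlgClosed K] [Field L] [Algebra K L]

/-- A subtorus of rank `m` of `G_L` gives a subtorus of rank at least `m` of `G`. -/
theorem exists_mono_of_bc {G : Over (Spec (CommRingCat.of K))} [GrpObj G]
    [LocallyOfFiniteType G.hom] {m : ℕ}
    (φ : Red.bc (str K L) (SpecOver K (KZ K m)) ⟶ Red.bc (str K L) G) [IsMonHom φ] [Mono φ] :
    ∃ (r : ℕ) (i : SpecOver K (KZ K r) ⟶ G), m ≤ r ∧ IsMonHom i ∧ Mono i := by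
  obtain ⟨ℓ, h2, hℓ⟩ := exists_prime K
  have hlft : LocallyOfFiniteType (SpecOver K (KZ K m)).hom := lft_specOver _
  have hD : IsVar (SpecOver K (KZ K m)) :=
    { isIntegral := by
        refine (affine_isIntegral_iff (CommRingCat.of (KZ K m))).2 ?_
        change IsDomain (KZ K m)
        infer_instance
      lft := hlft
      sep := inferInstance
      qc := inferInstance }
  have hfl : Flat (SpecOver K (KZ K m)).hom := by
    have := smooth_KZ (K := K) m
    infer_instance
  have hfin : {t : 𝟙_ (Over (Spec (CommRingCat.of K))) ⟶ SpecOver K (KZ K m) |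
      t ^ ℓ = 1}.Finite := by
    have h1 : Finite {t : 𝟙_ (Over (Spec (CommRingCat.of K))) ⟶ SpecOver K (KZ K m) //
        t ^ ℓ = 1} := by
      apply Nat.finite_of_card_ne_zero
      rw [card_torsion (K := K) m hℓ]
      positivity
    exact @Set.toFinite _ _ h1
  obtain ⟨ψ, hψ, hψ2⟩ := exists_hom_specialize hD _ hfin φ
  obtain ⟨r, p, i, hp, hi, hmono, -, -, hpi⟩ := ImgTorus.exists_factor_split ψ
  refine ⟨r, i, ?_, hi, hmono⟩
  refine rank_le_of_injective_torsion h2 hℓ p fun t ht h => hψ2 t ht ?_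
  rw [← hpi, ← Category.assoc, h, MonObj.one_comp]

omit [IsAlgClosed K] in
lemma exists_iso_bc {T : Over (Spec (CommRingCat.of K))} [GrpObj T] {n : ℕ}
    (e : T ≅ SpecOver K (KZ K n)) [IsMonHom e.hom] :
    ∃ e' : Red.bc (str K L) T ≅ SpecOver L (KZ L n), IsMonHom e'.hom := by
  have h1 : Red.IsSplitTorusWith (Fin n → ℤ) T := isSplitTorusWith_iff.2 ⟨e, inferInstance⟩
  exact isSplitTorusWith_iff.1 (Sga3B.TorusAlgClosed.isSplitTorusWith_bc (str K L) h1)

omit [IsAlgClosed K] in
lemma exists_iso_bc_inv (K L : Type u) [Field K] [Field L] [Algebra K L] (n : ℕ) :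
    ∃ e' : SpecOver L (KZ L n) ≅ Red.bc (str K L) (SpecOver K (KZ K n)), IsMonHom e'.hom := by
  have hid : IsMonHom (Iso.refl (SpecOver K (KZ K n))).hom :=
    inferInstanceAs (IsMonHom (𝟙 (SpecOver K (KZ K n))))
  obtain ⟨e, he⟩ := exists_iso_bc (L := L) (Iso.refl (SpecOver K (KZ K n)))
  exact ⟨e.symm, inferInstanceAs (IsMonHom e.inv)⟩

open Sga3B.BcPts in
omit [IsAlgClosed K] in
/-- Monomorphisms descend. -/
lemma mono_of_bc {X Y : Over (Spec (CommRingCat.of K))} (i : X ⟶ Y)
    [Mono ((Over.pullback (str K L)).map i)] : Mono i := by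
  constructor
  intro Z a b h
  have h1 : ∀ (a : Z ⟶ X) {Z' : Over (Spec (CommRingCat.of K))} (c : Z' ⟶ Z)
      (t : Z' ⟶ Over.mk (str K L)),
      ev ((Over.pullback (str K L)).map i) (c ≫ a) t = c ≫ a ≫ i := by
    intro a Z' c t
    simp only [ev]
    rw [← bcEquiv_comp, Equiv.symm_apply_apply, Category.assoc, Iso.inv_hom_id_assoc,
      Category.assoc]
  have h2 : fst Z (Over.mk (str K L)) ≫ a = fst Z (Over.mk (str K L)) ≫ b := by
    refine ev_injective ((Over.pullback (str K L)).map i) (t := snd _ _) ?_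
    rw [h1, h1, h]
  have hfl : Flat (str K L) := by
    exact Flat.SpecMap_iff.2 (by
      change (algebraMap K L).Flat
      rw [RingHom.flat_algebraMap_iff]
      infer_instance)
  have hsurj : Surjective (str K L) := by
    refine ⟨fun x => ⟨IsLocalRing.closedPoint L, ?_⟩⟩
    exact Subsingleton.elim (α := PrimeSpectrum K) _ _
  have h3 : Flat (fst Z (Over.mk (str K L))).left :=
    inferInstanceAs (Flat (Limits.pullback.fst Z.hom (str K L)))
  have h4 : Surjective (fst Z (Over.mk (str K L))).left :=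
    inferInstanceAs (Surjective (Limits.pullback.fst Z.hom (str K L)))
  have h5 : Epi (fst Z (Over.mk (str K L))) := FlatDesc.epi_of_cover _
  rwa [cancel_epi] at h2

variable [IsAlgClosed L]

/-- Invariance of maximal tori under extension of the algebraically closed field. -/
theorem isMaximalTorus_pullback_iff_str
    {G T : Over (Spec (CommRingCat.of K))} [GrpObj G] [GrpObj T] [LocallyOfFiniteType G.hom]
    (i : T ⟶ G) (hi : IsMonHom i) (hT : Red.IsTorus T) :
    Red.IsMaximalTorus ((Over.pullback (str K L)).map i) ↔ Red.IsMaximalTorus i := by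
  obtain ⟨n, e, he⟩ := isTorus_iff.1 hT
  obtain ⟨eL, heL⟩ := exists_iso_bc (L := L) e
  constructor
  · intro h
    have hmono : Mono ((Over.pullback (str K L)).map i) := h.2.1
    rw [isMaximalTorus_iff_abs] at h ⊢
    have hm : Mono i := mono_of_bc (L := L) i
    refine ⟨hi, hm, hT, fun T' _ j _ _ f hT' hf => ?_⟩
    obtain ⟨m, e', he'⟩ := isTorus_iff.1 hT'
    obtain ⟨eL', heL'⟩ := exists_iso_bc (L := L) e'
    have hfm : Mono f := by
      have : Mono (f ≫ j) := by rw [hf]; infer_instance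
      exact mono_of_mono f j
    have hfh : IsMonHom f := by
      have : IsMonHom (f ≫ j) := by rw [hf]; infer_instance
      exact Sga3C.SubGrp.isMonHom_of_comp_mono f j
    have h1 : IsIso ((Over.pullback (str K L)).map f) :=
      h.2.2.2 _ ((Over.pullback (str K L)).map j) ((Over.pullback (str K L)).map f)
        (isTorus_iff.2 ⟨m, eL', heL'⟩) (by rw [← Functor.map_comp, hf])
    have h2 : IsMonHom (asIso ((Over.pullback (str K L)).map f)).inv := inferInstance
    have h3 : m ≤ n := rank_le eL' eL (asIso ((Over.pullback (str K L)).map f)).inv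
    obtain rfl : n = m := le_antisymm (rank_le e e' f) h3
    exact isIso_of_rank e e' f
  · intro h
    have hm : Mono i := h.2.1
    rw [isMaximalTorus_iff_abs]
    refine ⟨inferInstance, inferInstance, isTorus_iff.2 ⟨n, eL, heL⟩, fun T' _ j _ _ f hT' hf => ?_⟩
    obtain ⟨m, e', he'⟩ := isTorus_iff.1 hT'
    have hei' : IsMonHom e'.inv := inferInstance
    have hfm : Mono f := by
      have : Mono (f ≫ j) := by rw [hf]; infer_instance
      exact mono_of_mono f j
    have hfh : IsMonHom f := by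
      have : IsMonHom (f ≫ j) := by rw [hf]; infer_instance
      exact Sga3C.SubGrp.isMonHom_of_comp_mono f j
    obtain ⟨c, hc⟩ := exists_iso_bc_inv K L m
    have hci : IsMonHom c.inv := inferInstance
    let φ : Red.bc (str K L) (SpecOver K (KZ K m)) ⟶ Red.bc (str K L) G := c.inv ≫ e'.inv ≫ j
    have hφ : IsMonHom φ := inferInstanceAs (IsMonHom (c.inv ≫ e'.inv ≫ j))
    have hφm : Mono φ := inferInstanceAs (Mono (c.inv ≫ e'.inv ≫ j))
    obtain ⟨r, k, hmr, hk, hkm⟩ := exists_mono_of_bc φ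
    obtain ⟨T₁, _, i₁, g, h₁, hg⟩ := exists_isMaximalTorus_of_torus k (isTorus_KZ r)
    obtain ⟨ψ, hψ⟩ := Exist.nonempty_iso i₁ i h₁ h
    have hm₁ := h₁.1
    have hmo₁ := h₁.2.1
    have hgm : Mono g := by
      have : Mono (g ≫ i₁) := by rw [hg]; infer_instance
      exact mono_of_mono g i₁
    have hgh : IsMonHom g := by
      have : IsMonHom (g ≫ i₁) := by rw [hg]; infer_instance
      exact Sga3C.SubGrp.isMonHom_of_comp_mono g i₁
    have hid : IsMonHom (Iso.refl (SpecOver K (KZ K r))).hom :=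
      inferInstanceAs (IsMonHom (𝟙 (SpecOver K (KZ K r))))
    have he₁ : IsMonHom (ψ ≪≫ e).hom := inferInstanceAs (IsMonHom (ψ.hom ≫ e.hom))
    have h2 : r ≤ n := rank_le (Iso.refl _) (ψ ≪≫ e) g
    obtain rfl : n = m := le_antisymm (rank_le eL e' f) (hmr.trans h2)
    exact isIso_of_rank eL e' f

end main

/-- Invariance of maximal tori under extension of the algebraically closed field. -/
theorem isMaximalTorus_pullback_iff {K L : Type u} [Field K] [IsAlgClosed K] [Field L]
    [IsAlgClosed L] (σ : Spec (CommRingCat.of L) ⟶ Spec (CommRingCat.of K))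
    {G T : Over (Spec (CommRingCat.of K))} [GrpObj G] [GrpObj T] [LocallyOfFiniteType G.hom]
    (i : T ⟶ G) (hi : IsMonHom i) (hT : Red.IsTorus T) :
    Red.IsMaximalTorus ((Over.pullback σ).map i) ↔ Red.IsMaximalTorus i := by
  obtain ⟨φ, rfl⟩ := Spec.map_surjective σ
  algebraize [φ.hom]
  exact isMaximalTorus_pullback_iff_str (K := K) (L := L) i hi hT

end Groth.Agent.Sga3.H784.FieldExt
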