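import Groth.Agent.Sga3.H784.FieldExt
import Groth.Agent.Agf.H609.MaxTorSch
import Groth.Agent.Sga3.H794.ChevKer
import Mathlib.AlgebraicGeometry.Morphisms.Proper

/-!
# Lifting tori along surjective homomorphisms to tori

`K` algebraically closed, `H` a smooth connected algebraic group for which the structure theorem
(`HasChev H`) holds, `v : H ⟶ R` a surjective homomorphism to a torus: there is a subtorus of `H`
mapping onto `R`.
-/

set_option autoImplicit false

universe u

open CategoryTheory MonoidalCategory CartesianMonoidalCategory MonObj GrpObj AlgebraicGeometry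
open Groth.Agent.Books.AffBridge Groth.Agent.Books.AffBridge2

namespace Groth.Agent.Sga3.H784.LiftTorus

open Sga3B.RG Sga3B.RG.BrPts Sga3B.RG.BrTorus Sga3B.RG.BrImg Sga3B.RG.BrDiag Sga3B.RG.BrMax
open Books.AlgPts Books.AlgPtsSmooth Books.AlgPtsGrp Groth.Agent.Sga3.H784.Commute Neutral Conj Exist

variable {K : Type u} [Field K] [IsAlgClosed K]

section const

/-- The global functions of an integral proper scheme over an algebraically closed field. -/
lemma appTop_surjective (P : Over (Spec (CommRingCat.of K))) [IsProper P.hom]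
    [IsIntegral P.left] : Function.Surjective P.hom.appTop := by
  let F := (Scheme.ΓSpecIso (CommRingCat.of K)).inv ≫ P.hom.appTop
  have h1 : F.hom.IsIntegral := by
    apply RingHom.isIntegral_respectsIso.2
      (e := (Scheme.ΓSpecIso (CommRingCat.of K)).symm.commRingCatIsoToRingEquiv)
    exact isIntegral_appTop_of_universallyClosed P.hom
  have h3 := IsAlgClosed.ringHom_bijective_of_isIntegral F.hom h1
  intro x
  obtain ⟨y, hy⟩ := h3.2 x
  exact ⟨(Scheme.ΓSpecIso (CommRingCat.of K)).inv.hom y, hy⟩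

/-- Morphisms from integral proper schemes to affine schemes are constant. -/
theorem eq_const_of_proper {P X : Over (Spec (CommRingCat.of K))} [IsProper P.hom]
    [IsIntegral P.left] [IsAffine X.left] (f : P ⟶ X)
    (p : 𝟙_ (Over (Spec (CommRingCat.of K))) ⟶ P) : f = toUnit P ≫ p ≫ f := by
  ext1
  apply ext_of_isAffine
  rw [Over.comp_left, Over.comp_left, Over.toUnit_left, Scheme.Hom.comp_appTop,
    Scheme.Hom.comp_appTop]
  have h1 : p.left ≫ P.hom = 𝟙 _ := Over.w p
  have h2 : P.hom.appTop ≫ p.left.appTop = 𝟙 _ := by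
    rw [← Scheme.Hom.comp_appTop, h1]
    rfl
  have h3 : p.left.appTop ≫ P.hom.appTop = 𝟙 _ := by
    ext x
    obtain ⟨y, rfl⟩ := appTop_surjective P x
    exact congrArg P.hom.appTop (congrArg (fun q => q.hom y) h2)
  rw [Category.assoc, h3, Category.comp_id]

theorem eq_one_of_proper {P X : Over (Spec (CommRingCat.of K))} [GrpObj P] [GrpObj X]
    [IsProper P.hom] [IsIntegral P.left] [IsAffine X.left] (f : P ⟶ X) [IsMonHom f] : f = 1 := by
  rw [eq_const_of_proper f η[P], IsMonHom.one_hom]
  rfl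

end const

section char

omit [IsAlgClosed K] in
/-- A proper subtorus of a split torus is killed by a non-trivial character. -/
lemma exists_character {n m : ℕ} (k : SpecOver K (KZ K n) ⟶ SpecOver K (KZ K m)) [IsMonHom k]
    [Mono k] (h : ¬ IsIso k) :
    ∃ χ : SpecOver K (KZ K m) ⟶ SpecOver K (MonoidAlgebra K (Multiplicative ℤ)),
      IsMonHom χ ∧ k ≫ χ = 1 ∧ χ ≠ 1 := by
  obtain ⟨φ, hφ⟩ := exists_bialgHom_of_isMonHom K k
  have hm : Mono (specMap K (φ : KZ K m →ₐ[K] KZ K n)) := by rw [hφ]; infer_instance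
  have hs := surjective_of_mono φ hm
  let ψ := MonoidAlgebra.mapDomainOfBialgHom φ
  have hψ : MonoidAlgebra.mapDomainBialgHom K ψ = φ :=
    MonoidAlgebra.mapDomainBialgHom_mapDomainOfBialgHom φ
  have hψi : ¬ Function.Injective ψ := by
    intro hi
    apply h
    have hφi : Function.Injective φ := by
      rw [← hψ]
      exact mapDomain_injective ψ hi
    rw [← hφ]
    let e : KZ K m ≃ₐ[K] KZ K n := AlgEquiv.ofBijective (φ : KZ K m →ₐ[K] KZ K n) ⟨hφi, hs⟩
    refine ⟨specMap K (e.symm : KZ K n →ₐ[K] KZ K m), ?_, ?_⟩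
    · rw [← specMap_comp, ← specMap_id]
      congr 1
      exact AlgHom.ext fun a => e.apply_symm_apply a
    · rw [← specMap_comp, ← specMap_id]
      congr 1
      exact AlgHom.ext fun a => e.symm_apply_apply a
  rw [injective_iff_map_eq_one] at hψi
  push Not at hψi
  obtain ⟨a, ha, ha1⟩ := hψi
  let z : Multiplicative ℤ →* Multiplicative (Fin m → ℤ) := zpowersHom _ a
  refine ⟨D K z, inferInstance, ?_, ?_⟩
  · have h1 : k = D K ψ := by rw [← hφ, ← hψ]; rfl
    rw [h1, D_comp]
    have h2 : ψ.comp z = 1 := by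
      refine MonoidHom.ext fun t => ?_
      change ψ (a ^ (Multiplicative.toAdd t)) = 1
      rw [map_zpow, ha, one_zpow]
    rw [h2, D_one]
  · intro h1
    rw [← D_one (Γ := Multiplicative (Fin m → ℤ)) (Γ' := Multiplicative ℤ)] at h1
    have h2 := congrArg (specPreimage K) h1
    simp only [D, specPreimage_specMap] at h2
    have h3 := congrArg (fun f => f (MonoidAlgebra.single (Multiplicative.ofAdd 1) (1 : K))) h2
    change MonoidAlgebra.mapDomainBialgHom K z _ = MonoidAlgebra.mapDomainBialgHom K 1 _ at h3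
    rw [MonoidAlgebra.mapDomainBialgHom_single, MonoidAlgebra.mapDomainBialgHom_single] at h3
    have h4 := MonoidAlgebra.single_left_injective (one_ne_zero (α := K)) h3
    apply ha1
    have h5 : z (Multiplicative.ofAdd 1) = a := by simp [z]
    rw [← h5, h4, MonoidHom.one_apply]

end char

section lift

open H794.ChevKer

omit [IsAlgClosed K] in
lemma isIntegral_of_connected (A : Over (Spec (CommRingCat.of K))) [GrpObj A] [Smooth A.hom]
    [ConnectedSpace A.left] : IsIntegral A.left := by
  have h1 : GrpObj (Over.mk A.hom) := inferInstanceAs (GrpObj A)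
  have : GeometricallyIrreducible A.hom :=
    Sga3C.GrpIrr.geometricallyIrreducible_of_connectedSpace A.hom
  have : IsReduced A.left := isReduced_of_smooth A
  have hirr : IrreducibleSpace A.left :=
    GeometricallyIrreducible.irreducibleSpace_of_subsingleton A.hom
  exact isIntegral_of_irreducibleSpace_of_isReduced A.left

omit [IsAlgClosed K] in
lemma isTorusSub_top (r : ℕ) : IsTorusSub (⊤ : Subgroup (Pt K (KZ K r))) := by
  refine ⟨r, BialgHom.id K _, Function.surjective_id, ?_⟩
  symm
  rw [eq_top_iff]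
  intro x _
  exact ⟨x, Pt.ext' fun a => rfl⟩

/-- Rational points lift along surjective morphisms. -/
lemma exists_lift_of_surjective {X Y : Over (Spec (CommRingCat.of K))}
    [LocallyOfFiniteType X.hom] [LocallyOfFiniteType Y.hom] (f : X ⟶ Y) [Surjective f.left]
    (y : 𝟙_ (Over (Spec (CommRingCat.of K))) ⟶ Y) :
    ∃ x : 𝟙_ (Over (Spec (CommRingCat.of K))) ⟶ X, x ≫ f = y :=
  exists_comp_eq_of_pt_mem_range f y (by rw [Set.range_eq_univ.2 f.left.surjective]; trivial)

/-- **Lifting of tori**, the target being split. -/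
theorem exists_torus_lift_split {H : Over (Spec (CommRingCat.of K))} [GrpObj H] [Smooth H.hom]
    (hC : HasChev H) {r : ℕ} (v : H ⟶ SpecOver K (KZ K r)) [IsMonHom v]
    (hv : ∀ y : 𝟙_ (Over (Spec (CommRingCat.of K))) ⟶ SpecOver K (KZ K r),
      ∃ x : 𝟙_ (Over (Spec (CommRingCat.of K))) ⟶ H, x ≫ v = y) :
    ∃ (S : Over (Spec (CommRingCat.of K))) (_ : GrpObj S) (j : S ⟶ H), IsMonHom j ∧ Mono j ∧
      Red.IsTorus S ∧ Surjective (j ≫ v).left := by
  obtain ⟨L, _, l, Qa, _, q, hl, hlcl, hLaff, hLsm, hLconn, -, hq, hqs, hqf, hker, hQp, hQs,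
    hQc⟩ := hC
  have hQint := isIntegral_of_connected Qa
  obtain ⟨B, _, _, e, he⟩ := exists_hopf K L
  have hei : IsMonHom e.inv := inferInstance
  have hiso : IsIso e.hom.left := inferInstanceAs (IsIso ((Over.forget _).map e.hom))
  have hiso' : IsIso e.inv.left := inferInstanceAs (IsIso ((Over.forget _).map e.inv))
  have hlftB : LocallyOfFiniteType (SpecOver K B).hom := by
    rw [hom_eq_of_iso e.symm]; infer_instance
  have hft : Algebra.FiniteType K B := (locallyOfFiniteType_specOver_iff K B).1 hlftB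
  have hsmB : Smooth (SpecOver K B).hom := by
    rw [hom_eq_of_iso e.symm]; infer_instance
  have hconnB : ConnectedSpace (SpecOver K B).left :=
    e.hom.left.surjective.connectedSpace e.hom.left.continuous
  have hdom : IsDomain B := (isDomain_iff B).1 ⟨hsmB, hconnB⟩
  obtain ⟨φ, hφ⟩ := exists_bialgHom_of_isMonHom K (e.inv ≫ l ≫ v)
  obtain ⟨M, hM⟩ := Sga3B.RG.exists_isMaxTorusSub (K := K) (A := B)
  obtain ⟨S, _, j, hj, hS, hjcl, hjM⟩ := exists_of_isTorusSub hM.1
  have hjm : Mono j := mono_of_isClosedImmersion j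
  have hlm : Mono l := mono_of_isClosedImmersion l
  let t : S ⟶ SpecOver K (KZ K r) := j ≫ e.inv ≫ l ≫ v
  have ht : IsMonHom t := inferInstanceAs (IsMonHom (j ≫ e.inv ≫ l ≫ v))
  obtain ⟨Q', _, p, k, hQ', hp, hk, hkm, hps, hpf, hpk⟩ := ImgTorus.exists_image_torus t hS
  obtain ⟨n, e', he'⟩ := isTorus_iff.1 hQ'
  have hei' : IsMonHom e'.inv := inferInstance
  -- points of `L` go into the image of `S`
  have hpts : ∀ x : 𝟙_ (Over (Spec (CommRingCat.of K))) ⟶ L,
      ∃ τ : 𝟙_ (Over (Spec (CommRingCat.of K))) ⟶ S, τ ≫ t = x ≫ l ≫ v := by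
    intro x
    obtain ⟨y', hy', hyy'⟩ := Agf.H609.MaxTorImg.mem_map_of_isDomain φ hM (isTorusSub_top r)
      (fun _ => trivial) ((ptEquiv K B).symm (x ≫ e.hom))
    rw [← hjM] at hy'
    obtain ⟨τ, hτ⟩ := hy'
    refine ⟨τ, ?_⟩
    have h1 := congrArg (ptEquiv K (KZ K r)) hyy'
    rw [ptEquiv_map, ptEquiv_map, MulEquiv.apply_symm_apply, hφ, ← hτ] at h1
    simp only [Category.assoc, Iso.hom_inv_id_assoc] at h1
    simp only [t]
    exact h1
  have hkiso : IsIso (e'.inv ≫ k) := by
    by_contra hno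
    obtain ⟨χ, hχ, hkχ, hχ1⟩ := exists_character (e'.inv ≫ k) hno
    have hL1 : l ≫ v ≫ χ = 1 := by
      have hred : IsReduced L.left := isReduced_of_smooth L
      refine hom_ext_of_points _ _ fun x => ?_
      obtain ⟨τ, hτ⟩ := hpts x
      have h1 : x ≫ l ≫ v ≫ χ = (τ ≫ t) ≫ χ := by
        rw [hτ]
        simp only [Category.assoc]
      have h2 : t ≫ χ = 1 := by
        have h3 : t = (p ≫ e'.hom) ≫ e'.inv ≫ k := by
          rw [Category.assoc, Iso.hom_inv_id_assoc, hpk]
        rw [h3, Category.assoc, hkχ, MonObj.comp_one]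
      rw [h1, Category.assoc, h2, MonObj.comp_one, MonObj.comp_one]
    have hlfp : LocallyOfFinitePresentation q.left := by
      have : IsLocallyNoetherian Qa.left := LocallyOfFiniteType.isLocallyNoetherian Qa.hom
      have : LocallyOfFiniteType q.left := by
        have h1 : LocallyOfFiniteType (q.left ≫ Qa.hom) := by rw [Over.w]; infer_instance
        exact locallyOfFiniteType_of_comp q.left Qa.hom
      infer_instance
    obtain ⟨ψ, hψ, hqψ⟩ := exists_desc_hom l q hker (v ≫ χ) hL1
    rw [eq_one_of_proper ψ, MonObj.comp_one] at hqψ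
    apply hχ1
    have hlftr : LocallyOfFiniteType (SpecOver K (KZ K r)).hom := lft_specOver _
    have hredr : IsReduced (SpecOver K (KZ K r)).left := by
      have := smooth_KZ (K := K) r
      exact isReduced_of_smooth _
    refine hom_ext_of_points _ _ fun y => ?_
    obtain ⟨x, rfl⟩ := hv y
    rw [Category.assoc, ← hqψ, MonObj.comp_one, MonObj.comp_one]
  have hkiso' : IsIso k := IsIso.of_isIso_comp_left e'.inv k
  have hkl : IsIso k.left := inferInstanceAs (IsIso ((Over.forget _).map k))
  refine ⟨S, inferInstance, j ≫ e.inv ≫ l, inferInstance, inferInstance, hS, ?_⟩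
  have h1 : (j ≫ e.inv ≫ l) ≫ v = p ≫ k := by
    rw [hpk]
    simp only [t, Category.assoc]
  rw [h1, Over.comp_left]
  infer_instance

/-- **Lifting of tori**. -/
theorem exists_torus_lift {H R : Over (Spec (CommRingCat.of K))} [GrpObj H] [GrpObj R]
    [Smooth H.hom] (hC : HasChev H) (hR : Red.IsTorus R) (v : H ⟶ R) [IsMonHom v]
    (hv : ∀ y : 𝟙_ (Over (Spec (CommRingCat.of K))) ⟶ R,
      ∃ x : 𝟙_ (Over (Spec (CommRingCat.of K))) ⟶ H, x ≫ v = y) :
    ∃ (S : Over (Spec (CommRingCat.of K))) (_ : GrpObj S) (j : S ⟶ H), IsMonHom j ∧ Mono j ∧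
      Red.IsTorus S ∧ Surjective (j ≫ v).left := by
  obtain ⟨r, e, he⟩ := isTorus_iff.1 hR
  obtain ⟨S, _, j, hj, hjm, hS, hsurj⟩ := exists_torus_lift_split hC (v ≫ e.hom) (fun y => by
    obtain ⟨x, hx⟩ := hv (y ≫ e.inv)
    exact ⟨x, by rw [← Category.assoc, hx, Category.assoc, Iso.inv_hom_id, Category.comp_id]⟩)
  refine ⟨S, inferInstance, j, hj, hjm, hS, ?_⟩
  have hiso' : IsIso e.inv.left := inferInstanceAs (IsIso ((Over.forget _).map e.inv))
  have h1 : j ≫ v = (j ≫ v ≫ e.hom) ≫ e.inv := by simp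
  rw [h1, Over.comp_left]
  infer_instance

end lift

end Groth.Agent.Sga3.H784.LiftTorus
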