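import Groth.Agent.Sga3.H784.Commute
import Groth.Agent.Sga3B.RedIdComp
import Groth.Agent.S3025

/-!
# Tori and the neutral component

`K` algebraically closed, `G` an algebraic group over `K`.

* `exists_neutral`: the reduced neutral component, which is quasi-compact;
* `exists_lift_neutral`: tori factor through it;
* `isMaximalTorus_comp_iff`: maximality does not change.
-/

set_option autoImplicit false

universe u

open CategoryTheory MonoidalCategory CartesianMonoidalCategory MonObj GrpObj AlgebraicGeometry
open Groth.Agent.Books.AffBridge Groth.Agent.Books.AffBridge2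

namespace Groth.Agent.Sga3.H784.Neutral

open Sga3B.RG Sga3B.RG.BrPts Sga3B.RG.BrTorus Sga3B.RG.BrImg Sga3B.RG.BrDiag Sga3B.RG.BrMax
open Books.AlgPts Books.AlgPtsSmooth Groth.Agent.Sga3.H784.Commute

variable {K : Type u} [Field K] [IsAlgClosed K]

/-- The reduced neutral component. -/
theorem exists_neutral (G : Over (Spec (CommRingCat.of K))) [GrpObj G] [LocallyOfFiniteType G.hom] :
    ∃ (U : Over (Spec (CommRingCat.of K))) (_ : GrpObj U) (u : U ⟶ G), IsMonHom u ∧
      IsClosedImmersion u.left ∧ Smooth U.hom ∧ ConnectedSpace U.left ∧ QuasiCompact U.hom ∧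
      Set.range u.left = connectedComponent (pt η[G]) := by
  obtain ⟨U, _, u, hu, hcl, hsm, hconn, hr⟩ := Sga3B.RedIdComp.exists_redIdComp G
  refine ⟨U, inferInstance, u, hu, hcl, hsm, hconn, ?_, hr⟩
  have hlfp : LocallyOfFinitePresentation U.hom := inferInstance
  refine (S3025.result (Spec (CommRingCat.of K)) U fun s => ?_).2
  have h1 : U.hom.base ⁻¹' {s} = Set.univ := by
    ext x
    simp only [Set.mem_preimage, Set.mem_singleton_iff, Set.mem_univ, iff_true]
    have hsub : Subsingleton (Spec (CommRingCat.of K)) :=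
      inferInstanceAs (Subsingleton (PrimeSpectrum K))
    exact Subsingleton.elim _ _
  rw [h1]
  exact isConnected_univ

lemma connectedSpace_of_isTorus {T : Over (Spec (CommRingCat.of K))} [GrpObj T]
    (hT : Red.IsTorus T) : ConnectedSpace T.left := by
  obtain ⟨n, e, he⟩ := isTorus_iff.1 hT
  have h1 : ConnectedSpace (SpecOver K (KZ K n)).left := by
    change ConnectedSpace (PrimeSpectrum (KZ K n))
    infer_instance
  have : IsIso e.inv.left := inferInstanceAs (IsIso ((Over.forget _).map e.inv))
  have h2 : Function.Surjective e.inv.left := e.inv.left.surjective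
  exact h2.connectedSpace e.inv.left.continuous

/-- Tori factor through the neutral component. -/
theorem exists_lift_neutral {G U T : Over (Spec (CommRingCat.of K))} [GrpObj G] [GrpObj U] [GrpObj T]
    (u : U ⟶ G) [IsMonHom u] [IsClosedImmersion u.left]
    (hu : Set.range u.left = connectedComponent (pt η[G])) (i : T ⟶ G) [IsMonHom i]
    (hT : Red.IsTorus T) : ∃ f : T ⟶ U, IsMonHom f ∧ f ≫ u = i := by
  have hconn := connectedSpace_of_isTorus hT
  have hsm := smooth_of_isTorus hT
  have hred : IsReduced T.left := isReduced_of_smooth T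
  have hrange : Set.range i.left ⊆ Set.range u.left := by
    rw [hu]
    have h1 : _root_.IsPreconnected (Set.range i.left) := isPreconnected_range i.left.continuous
    refine h1.subset_connectedComponent ?_
    have h2 : η[T] ≫ i = η[G] := IsMonHom.one_hom i
    rw [← h2, pt_comp]
    exact ⟨_, rfl⟩
  obtain ⟨f, hf⟩ := Books.AlgPtsGrp.exists_lift u i hrange
  have hm : Mono u := Books.AlgPtsGrp.mono_of_isClosedImmersion u
  subst hf
  exact ⟨f, Sga3C.SubGrp.isMonHom_of_comp_mono f u, rfl⟩

/-- Maximality in the neutral component and in the whole group. -/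
theorem isMaximalTorus_comp_iff {G U T : Over (Spec (CommRingCat.of K))} [GrpObj G] [GrpObj U]
    [GrpObj T] (u : U ⟶ G) [IsMonHom u] [IsClosedImmersion u.left]
    (hu : Set.range u.left = connectedComponent (pt η[G])) (f : T ⟶ U) :
    Red.IsMaximalTorus (f ≫ u) ↔ Red.IsMaximalTorus f := by
  have hm : Mono u := Books.AlgPtsGrp.mono_of_isClosedImmersion u
  rw [isMaximalTorus_iff_abs, isMaximalTorus_iff_abs]
  constructor
  · rintro ⟨h1, h2, h3, h4⟩
    refine ⟨Sga3C.SubGrp.isMonHom_of_comp_mono f u, mono_of_mono f u, h3,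
      fun T' _ j _ _ g hT' hg => ?_⟩
    exact h4 T' (j ≫ u) g hT' (by rw [← Category.assoc, hg])
  · rintro ⟨h1, h2, h3, h4⟩
    refine ⟨inferInstance, inferInstance, h3, fun T' _ j _ _ g hT' hg => ?_⟩
    obtain ⟨j', hj', rfl⟩ := exists_lift_neutral u hu j hT'
    have : Mono j' := mono_of_mono j' u
    refine h4 T' j' g hT' ?_
    rw [← cancel_mono u, Category.assoc, hg]

end Groth.Agent.Sga3.H784.Neutral
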