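import Groth.Agent.Sga3.H784.Exist
import Groth.Agent.Pi1A.FGLimit
import Groth.Agent.Sga3B.BcPts
import Mathlib.AlgebraicGeometry.Morphisms.SchemeTheoreticallyDominant

/-!
# Spreading out homomorphisms from tori

`K ⊆ L` algebraically closed fields, `G` an algebraic group over `K`.

* `exists_factor_fg`: a family of morphisms `Z ⊗ Spec L ⟶ G` comes from a finitely generated
  subalgebra of `L`;
* `exists_hom_specialize`: a monomorphism `D_L ⟶ G_L` from a split torus gives a homomorphism
  `D ⟶ G` which is injective on the `ℓ`-torsion.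
-/

set_option autoImplicit false

universe u

open CategoryTheory MonoidalCategory CartesianMonoidalCategory MonObj GrpObj AlgebraicGeometry
open Groth.Agent.Books.AffBridge Groth.Agent.Books.AffBridge2

namespace Groth.Agent.Sga3.H784.Spread

open Sga3B.RG Sga3B.RG.BrPts Sga3B.RG.BrTorus Sga3B.RG.BrImg Sga3B.RG.BrDiag Sga3B.RG.BrMax
open Books.AlgPts Books.AlgPtsSmooth Books.AlgPtsGen Groth.Agent.Sga3.H784.Commute Neutral Conj Exist

section fg

variable {K L : Type u} [Field K] [CommRing L] [Algebra K L]

open Groth.Agent.Pi1A.FGLimit in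
/-- Families of morphisms parametrised by `Spec L` come from a finitely generated subalgebra. -/
theorem exists_factor_fg {Z G : Over (Spec (CommRingCat.of K))} [QuasiCompact Z.hom]
    [QuasiSeparated Z.hom] [LocallyOfFinitePresentation G.hom] (u : Z ⊗ SpecOver K L ⟶ G) :
    ∃ (B : Subalgebra K L) (_ : B.FG) (v : Z ⊗ SpecOver K B ⟶ G),
      Z ◁ specMap K B.val ≫ v = u := by
  let t : diag K L Z.hom ⟶ (Functor.const _).obj (Spec (CommRingCat.of K)) :=
    { app := fun F => pbFst _ _ Z.hom F ≫ Z.hom
      naturality := fun i j φ => by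
        refine Eq.trans ?_ (Category.comp_id _).symm
        rw [← Category.assoc, pbDiag_map_fst] }
  obtain ⟨F, g, hg1, hg2⟩ := Scheme.exists_π_app_comp_eq_of_locallyOfFinitePresentation
    (diag K L Z.hom) t G.hom (cone K L Z.hom) (isLimit K L Z.hom) u.left (by
      ext F
      simp only [NatTrans.comp_app, Functor.const_map_app, t]
      refine Eq.trans ?_ (Over.w u).symm
      refine Eq.trans ?_ (Over.tensorObj_hom Z (SpecOver K L)).symm
      rw [← Category.assoc, pbCone_fst]
      rfl)
  refine ⟨Algebra.adjoin K (F.unop : Set L), Subalgebra.fg_adjoin_finset _, Over.homMk g hg2, ?_⟩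
  ext1
  rw [← hg1, Over.comp_left]
  rfl

end fg

section special

variable {K L : Type u} [Field K] [Field L] [Algebra K L]

open Sga3B.BcPts

/-- The structure morphism. -/
noncomputable abbrev str (K L : Type u) [Field K] [Field L] [Algebra K L] :
    Spec (CommRingCat.of L) ⟶ Spec (CommRingCat.of K) :=
  Spec.map (CommRingCat.ofHom (algebraMap K L))

lemma isDominant_whisker {Z : Over (Spec (CommRingCat.of K))} [Flat Z.hom] (B : Subalgebra K L) :
    IsDominant (Z ◁ specMap K B.val).left := by
  have h1 : IsSchemeTheoreticallyDominant (specMap K B.val).left := by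
    have h2 : IsDominant (Spec.map (CommRingCat.ofHom (B.val : B →+* L))) :=
      ⟨(PrimeSpectrum.denseRange_comap_iff_ker_le_nilRadical _).2 (by
        rw [(RingHom.injective_iff_ker_eq_bot _).1 (Subtype.val_injective :
          Function.Injective (B.val : B →+* L))]
        exact bot_le)⟩
    have h3 : IsReduced (Spec (CommRingCat.of B)) := by
      rw [affine_isReduced_iff]
      change _root_.IsReduced B
      infer_instance
    exact IsSchemeTheoreticallyDominant.of_isDominant
      (Spec.map (CommRingCat.ofHom (B.val : B →+* L)))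
  have hsq : IsPullback (snd Z (SpecOver K L)).left (Z ◁ specMap K B.val).left
      (specMap K B.val).left (snd Z (SpecOver K B)).left :=
    (Groth.Agent.Localalg.GrpSchComp2.isPullback_whiskerLeft Z
      (specMap K B.val)).map (Over.forget _)
  have hfl : Flat (snd Z (SpecOver K B)).left := by
    change Flat (Limits.pullback.snd Z.hom (SpecOver K B).hom)
    infer_instance
  have hqc1 : QuasiCompact (specMap K B.val).left :=
    inferInstanceAs (QuasiCompact (Spec.map _))
  have hqc : QuasiCompact (Z ◁ specMap K B.val).left :=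
    MorphismProperty.of_isPullback (P := @QuasiCompact) hsq hqc1
  have h4 : IsSchemeTheoreticallyDominant (Z ◁ specMap K B.val).left :=
    IsSchemeTheoreticallyDominant.of_isPullback hsq
  infer_instance

lemma epi_toUnit : Epi (toUnit (SpecOver K L)) := by
  have h1 : (toUnit (SpecOver K L)).left = Spec.map (CommRingCat.ofHom (algebraMap K L)) := by
    rw [Over.toUnit_left]
    rfl
  have h2 : Flat (toUnit (SpecOver K L)).left := by
    rw [h1]
    exact Flat.SpecMap_iff.2 (by
      change (algebraMap K L).Flat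
      rw [RingHom.flat_algebraMap_iff]
      infer_instance)
  have h3 : Surjective (toUnit (SpecOver K L)).left := by
    rw [h1]
    refine ⟨fun x => ⟨IsLocalRing.closedPoint L, ?_⟩⟩
    exact Subsingleton.elim (α := PrimeSpectrum K) _ _
  exact FlatDesc.epi_of_cover _

lemma ev_injective {S S' : Scheme.{u}} {f : S' ⟶ S} {X Y : Over S}
    (φ : Red.bc f X ⟶ Red.bc f Y) [Mono φ] {T : Over S} {a b : T ⟶ X} {t : T ⟶ Over.mk f}
    (h : ev φ a t = ev φ b t) : a = b := by
  simp only [ev] at h
  rw [cancel_epi] at h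
  have h1 := (bcEquiv f (Over.mk t.left) Y).symm.injective h
  rw [cancel_mono] at h1
  have h2 := (bcEquiv f (Over.mk t.left) X).injective h1
  rwa [cancel_epi] at h2

variable [IsAlgClosed K]

/-- Specialisation of a homomorphism of group schemes. -/
theorem exists_hom_specialize {G D : Over (Spec (CommRingCat.of K))} [GrpObj G] [GrpObj D]
    [LocallyOfFiniteType G.hom] (hD : IsVar D) [Flat D.hom]
    (S : Set (𝟙_ (Over (Spec (CommRingCat.of K))) ⟶ D)) (hS : S.Finite)
    (φ : Red.bc (str K L) D ⟶ Red.bc (str K L) G) [IsMonHom φ] [Mono φ] :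
    ∃ ψ : D ⟶ G, IsMonHom ψ ∧ ∀ t ∈ S, t ≫ ψ = 1 → t = 1 := by
  have hDqc := hD.qc
  have hDsep := hD.sep
  have hsepG := Groth.Agent.Localalg.GrpSchComp2.isSeparated_hom G
  have hlfp : LocallyOfFinitePresentation G.hom := inferInstance
  obtain ⟨F, hF, hF2⟩ : ∃ F : D ⊗ SpecOver K L ⟶ G,
      (∀ {X : Over (Spec (CommRingCat.of K))} (a : X ⟶ D) (t : X ⟶ SpecOver K L),
        lift a t ≫ F = ev φ a t) ∧
      ∀ {X : Over (Spec (CommRingCat.of K))} (a b : X ⟶ D) (t : X ⟶ SpecOver K L),
        lift (a * b) t ≫ F = (lift a t ≫ F) * (lift b t ≫ F) := by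
    refine ⟨fam φ, fun a t => lift_fam φ a t, fun a b t => ?_⟩
    refine (lift_fam φ (a * b) t).trans ?_
    rw [ev_mul]
    exact (congrArg₂ (· * ·) (lift_fam φ a t) (lift_fam φ b t)).symm
  obtain ⟨B, hB, v, hv⟩ := exists_factor_fg (K := K) (L := L) F
  have hBft : Algebra.FiniteType K B := B.fg_iff_finiteType.1 hB
  have hlftP : LocallyOfFiniteType (SpecOver K B).hom := lft_specOver (K := K) B
  have hP : IsVar (SpecOver K B) :=
    { isIntegral := by
        refine (affine_isIntegral_iff (CommRingCat.of B)).2 ?_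
        change IsDomain B
        infer_instance
      lft := hlftP
      sep := inferInstance
      qc := inferInstance }
  have hPint := hP.isIntegral
  -- the family property
  have hfam : ∀ {X : Over (Spec (CommRingCat.of K))} (p : X ⟶ SpecOver K B) (a b : X ⟶ D),
      lift (a * b) p ≫ v = (lift a p ≫ v) * (lift b p ≫ v) := by
    let m₁ : (D ⊗ D) ⊗ SpecOver K B ⟶ G :=
      lift ((fst _ _ ≫ fst D D) * (fst _ _ ≫ snd D D)) (snd _ _) ≫ v
    let m₂ : (D ⊗ D) ⊗ SpecOver K B ⟶ G :=
      (lift (fst _ _ ≫ fst D D) (snd _ _) ≫ v) * (lift (fst _ _ ≫ snd D D) (snd _ _) ≫ v)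
    have hm : m₁ = m₂ := by
      have hint := ((hD.tensor hD).tensor hP).isIntegral
      have hfl : Flat (D ⊗ D).hom := by
        rw [Over.tensorObj_hom]
        infer_instance
      have hdom : IsDominant ((D ⊗ D) ◁ specMap K B.val).left := isDominant_whisker B
      ext1
      refine ext_of_isDominant_of_isSeparated G.hom (by rw [Over.w, Over.w])
        ((D ⊗ D) ◁ specMap K B.val).left ?_
      rw [← Over.comp_left, ← Over.comp_left]
      congr 1
      have key : ∀ (a : (D ⊗ D) ⊗ SpecOver K B ⟶ D),
          (D ⊗ D) ◁ specMap K B.val ≫ lift a (snd _ _) ≫ v =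
            lift ((D ⊗ D) ◁ specMap K B.val ≫ a) (snd _ _) ≫ F := by
        intro a
        rw [← hv, ← Category.assoc, ← Category.assoc]
        congr 1
        ext1 <;> simp
      simp only [m₁, m₂]
      rw [MonObj.comp_mul, key, key, key, MonObj.comp_mul, hF2]
    intro X p a b
    have h1 := congrArg (fun q => lift (lift a b) p ≫ q) hm
    simp only [m₁, m₂, MonObj.comp_mul, ← Category.assoc, comp_lift, lift_fst, lift_snd] at h1
    exact h1
  have hF1 : ∀ {X : Over (Spec (CommRingCat.of K))} (a : X ⟶ D) (t : X ⟶ SpecOver K L),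
      lift a t ≫ F = 1 → a = 1 := by
    intro X a t h
    have h1 : lift (1 : X ⟶ D) t ≫ F = 1 := by
      have h2 := hF2 (1 : X ⟶ D) 1 t
      rw [_root_.mul_one] at h2
      exact (left_eq_mul.1 h2)
    refine ev_injective φ (t := t) ?_
    rw [← hF, ← hF, h, h1]
  let g : (𝟙_ (Over (Spec (CommRingCat.of K))) ⟶ D) → (SpecOver K B ⟶ G) :=
    fun t => lift (toUnit _ ≫ t) (𝟙 _) ≫ v
  have hg : ∀ t, g t = 1 → t = 1 := by
    intro t ht
    have h1 : specMap K B.val ≫ g t = lift (toUnit (SpecOver K L) ≫ t) (𝟙 _) ≫ F := by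
      simp only [g]
      rw [← hv, ← Category.assoc, ← Category.assoc]
      congr 1
      ext1 <;> simp
    have h2 : toUnit (SpecOver K L) ≫ t = 1 := by
      apply hF1 _ (𝟙 _)
      rw [← h1, ht, MonObj.comp_one]
    have h3 := epi_toUnit (K := K) (L := L)
    rw [← cancel_epi (toUnit (SpecOver K L)), h2, MonObj.comp_one]
  let U : (𝟙_ (Over (Spec (CommRingCat.of K))) ⟶ D) → Set (SpecOver K B).left :=
    fun t => ((g t).left ⁻¹' {pt (1 : 𝟙_ _ ⟶ G)})ᶜ
  have hUo : ∀ t, IsOpen (U t) := fun t =>
    ((isClosed_pt (1 : 𝟙_ _ ⟶ G)).preimage (g t).left.continuous).isOpen_compl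
  have hUne : ∀ t, t ≠ 1 → (U t).Nonempty := by
    intro t ht
    rw [Set.nonempty_iff_ne_empty]
    intro he
    refine ht (hg t ?_)
    refine hom_ext_of_points _ _ fun y => ?_
    apply pt_injective
    rw [pt_comp, MonObj.comp_one]
    by_contra hne
    have : pt y ∈ U t := hne
    rw [he] at this
    exact this
  obtain ⟨x, hx⟩ : ∃ x : 𝟙_ (Over (Spec (CommRingCat.of K))) ⟶ SpecOver K B,
      pt x ∈ ⋂ t ∈ (S \ {1}), U t := by
    have hfin : (S \ {1}).Finite := hS.subset Set.sdiff_subset
    refine exists_pt_mem ?_ (hfin.isOpen_biInter fun t _ => hUo t).isLocallyClosed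
    have hirr : IrreducibleSpace (SpecOver K B).left := inferInstance
    have h1 := (isIrreducible_iff_sInter.1 (IrreducibleSpace.isIrreducible_univ
      (SpecOver K B).left)) ((hfin.image U).toFinset) (fun u hu => by
        rw [Set.Finite.mem_toFinset] at hu
        obtain ⟨t, -, rfl⟩ := hu
        exact hUo t) (fun u hu => by
        rw [Set.Finite.mem_toFinset] at hu
        obtain ⟨t, ht, rfl⟩ := hu
        rw [Set.univ_inter]
        exact hUne t ht.2)
    rw [Set.univ_inter, Set.Finite.coe_toFinset, Set.sInter_image] at h1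
    exact h1
  refine ⟨lift (𝟙 D) (toUnit D ≫ x) ≫ v, ?_, fun t ht h => ?_⟩
  · apply Commute.isMonHom_of_pts
    intro X a b
    have h1 := hfam (toUnit X ≫ x) a b
    simpa only [← Category.assoc, comp_lift, Category.comp_id, comp_toUnit] using h1
  · by_contra hne
    have h1 : pt x ∈ U t := by
      rw [Set.mem_iInter₂] at hx
      exact hx t ⟨ht, hne⟩
    apply h1
    change (g t).left (pt x) = _
    rw [← pt_comp]
    congr 1
    simp only [g]
    rw [← h]
    simp only [← Category.assoc, comp_lift, Category.comp_id, comp_toUnit]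
    rw [toUnit_unique (toUnit (𝟙_ (Over (Spec (CommRingCat.of K))))) (𝟙 _), Category.id_comp,
      Category.id_comp]

end special

end Groth.Agent.Sga3.H784.Spread
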