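import Groth.Agent.Sga3B.RG.BrTorus
import Groth.Agent.Sga3B.RG.BrImg
import Groth.Agent.Sga3B.RG.TorConj
import Groth.Agent.Localalg.GrpSchComp2
import Mathlib.AlgebraicGeometry.Morphisms.ClosedImmersion
import Mathlib.AlgebraicGeometry.Morphisms.Separated

/-!
# Torsion points of tori over an algebraically closed field

* `hom_ext_of_torsion`: morphisms from a torus to a separated scheme agreeing on torsion points are equal;
* `exists_pow_eq`: the group of rational points of a torus is divisible;
* `commute_of_torsion`: a group theoretic lemma.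
-/

set_option autoImplicit false

universe u

namespace Groth.Agent.Sga3.H784.Torsion

/-- If `x ^ n = 1` and the commutator of `x` and `s` is central then `x` commutes with `s ^ n`. -/
lemma commute_of_torsion {Γ : Type*} [Group Γ] {x s : Γ} {n : ℕ} (hx : x ^ n = 1)
    (hc : ∀ a, Commute (x * s * x⁻¹ * s⁻¹) a) : Commute x (s ^ n) := by
  set c := x * s * x⁻¹ * s⁻¹ with hcdef
  have h1 : x * s * x⁻¹ = c * s := by rw [hcdef]; group
  have h2 : s * x * s⁻¹ = c⁻¹ * x := by rw [hcdef]; group
  have h3 : c⁻¹ ^ n = 1 := by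
    have h4 : (s * x * s⁻¹) ^ n = 1 := by rw [conj_pow, hx]; group
    rw [h2, ((hc x).inv_left).mul_pow, hx, mul_one] at h4
    exact h4
  have h5 : c ^ n = 1 := by rwa [inv_pow, inv_eq_one] at h3
  have h6 : x * s ^ n * x⁻¹ = s ^ n := by
    rw [← conj_pow, h1, (hc s).mul_pow, h5, one_mul]
  exact mul_inv_eq_iff_eq_mul.1 h6

open CategoryTheory MonoidalCategory CartesianMonoidalCategory MonObj GrpObj AlgebraicGeometry
open Groth.Agent.Books.AffBridge Groth.Agent.Books.AffBridge2
open Sga3B.RG Sga3B.RG.BrPts Sga3B.RG.BrTorus Sga3B.RG.BrImg Sga3B.RG.BrDiag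

variable {K : Type u} [Field K]

/-- A morphism from `Spec A` over `K` factors through a closed subscheme if all elements of the ideal
vanish at a family of points which is dense. -/
theorem hom_ext_of_dense {G : Over (Spec (CommRingCat.of K))} [IsSeparated G.hom]
    {A : Type u} [CommRing A] [HopfAlgebra K A] (Z : Set (Pt K A))
    (hZ : ∀ a : A, (∀ x ∈ Z, x a = 0) → a = 0) (f g : SpecOver K A ⟶ G)
    (h : ∀ x ∈ Z, ptEquiv K A x ≫ f = ptEquiv K A x ≫ g) : f = g := by
  let e := Limits.equalizer.ι f g
  have he : IsClosedImmersion e.left := inferInstance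
  obtain ⟨I, e', he'⟩ := (IsClosedImmersion.Spec_iff (R := CommRingCat.of A) (f := e.left)).1 he
  -- points of `Z` factor through the equalizer
  have hI : I = ⊥ := by
    rw [eq_bot_iff]
    intro a ha
    refine hZ a fun x hx => ?_
    let l : 𝟙_ (Over (Spec (CommRingCat.of K))) ⟶ Limits.equalizer f g :=
      Limits.equalizer.lift (ptEquiv K A x) (h x hx)
    have hl : l ≫ e = ptEquiv K A x := Limits.equalizer.lift_ι _ _
    have h1 : ((unitIso K).inv ≫ l) ≫ e = specMap K x.ofConv := by
      rw [Category.assoc, hl, ptEquiv_apply, Iso.inv_hom_id_assoc]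
    let y : Spec (CommRingCat.of K) ⟶ (Limits.equalizer f g).left := ((unitIso K).inv ≫ l).left
    have h2 : (y ≫ e'.hom) ≫ Spec.map (CommRingCat.ofHom (Ideal.Quotient.mk I)) =
        Spec.map (CommRingCat.ofHom x.ofConv.toRingHom) := by
      rw [Category.assoc]
      exact (congrArg (fun q => y ≫ q) he'.symm).trans (congrArg (fun q => q.left) h1)
    obtain ⟨ψ, hψ⟩ := Spec.map_surjective (y ≫ e'.hom)
    rw [← hψ, ← Spec.map_comp] at h2
    have h4 := Spec.map_injective h2
    have h5 : ψ.hom (Ideal.Quotient.mk I a) = x a := congrArg (fun q => q.hom a) h4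
    rw [← h5, Ideal.Quotient.eq_zero_iff_mem.2 ha, map_zero]
  subst hI
  have h6 : IsIso e.left := by
    have h7 : IsIso (CommRingCat.ofHom (Ideal.Quotient.mk (⊥ : Ideal (CommRingCat.of A)))) := by
      rw [ConcreteCategory.isIso_iff_bijective]
      exact ⟨fun a b hab => by
        have := Ideal.Quotient.eq.1 hab
        rwa [Ideal.mem_bot, sub_eq_zero] at this, Ideal.Quotient.mk_surjective⟩
    have h8 : IsIso (e'.hom ≫ Spec.map (CommRingCat.ofHom
        (Ideal.Quotient.mk (⊥ : Ideal (CommRingCat.of A))))) := by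
      have h9 : IsIso (Spec.map (CommRingCat.ofHom
        (Ideal.Quotient.mk (⊥ : Ideal (CommRingCat.of A))))) := inferInstance
      infer_instance
    rw [he']
    exact h8
  have h8 : IsIso e := by
    have : IsIso ((Over.forget _).map e) := h6
    exact isIso_of_reflects_iso e (Over.forget _)
  rw [← cancel_epi e]
  exact Limits.equalizer.condition f g

variable [IsAlgClosed K]

/-- Morphisms from a torus to a separated scheme which agree on torsion points are equal. -/
theorem hom_ext_of_torsion {G : Over (Spec (CommRingCat.of K))} [IsSeparated G.hom]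
    {n : ℕ} (f g : SpecOver K (KZ K n) ⟶ G)
    (h : ∀ x : Pt K (KZ K n), (∃ m : ℕ, 0 < m ∧ x ^ m = 1) →
      ptEquiv K (KZ K n) x ≫ f = ptEquiv K (KZ K n) x ≫ g) : f = g := by
  obtain ⟨l, hl, hl0⟩ := exists_prime_ne_zero K
  refine hom_ext_of_dense {x | ∃ m : ℕ, 0 < m ∧ x ^ m = 1} (fun a ha => ?_) f g h
  refine eq_zero_of_torsion hl hl0 a fun i t ht => ha _ ⟨l ^ i, pow_pos hl.pos i, ?_⟩
  rw [← map_pow]
  have h1 : t ^ (l ^ i) = 1 := MonoidHom.ext fun x => ht x
  rw [h1, map_one]

/-- The group of points of a torus is divisible. -/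
theorem exists_pow_eq {n : ℕ} (x : Pt K (KZ K n)) {m : ℕ} (hm : 0 < m) : ∃ y : Pt K (KZ K n), y ^ m = x := by
  obtain ⟨t, rfl⟩ := (torPt (K := K) (Multiplicative (Fin n → ℤ))).surjective x
  have hq : Function.Injective (powMonoidHom m : Multiplicative (Fin n → ℤ) →* _) := by
    intro a b hab
    have h1 : m • Multiplicative.toAdd a = m • Multiplicative.toAdd b := hab
    have h2 : Multiplicative.toAdd a = Multiplicative.toAdd b := by
      funext i
      have h3 := congrFun h1 i
      simp only [Pi.smul_apply, nsmul_eq_mul] at h3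
      have h4 : (m : ℤ) ≠ 0 := by exact_mod_cast hm.ne'
      exact mul_left_cancel₀ h4 h3
    exact h2
  obtain ⟨t', ht'⟩ := exists_extend (K := K) (powMonoidHom m) hq t
  refine ⟨torPt _ t', ?_⟩
  rw [← map_pow]
  congr 1
  rw [← ht']
  ext x
  simp

end Groth.Agent.Sga3.H784.Torsion
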